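import Cfsg.Agent.Lib.ProdFusion.Main
import Cfsg.Prelude.Def_TwoFusion
import Mathlib.GroupTheory.Transfer

/-!
Product fusion from a pair of commuting strongly closed subgroups, and the splitting that follows
when the pair fills a Sylow 2-subgroup and is generated by involutions.
-/

set_option autoImplicit false
set_option linter.unusedSectionVars false

open Subgroup
open scoped IsMulCommutative

universe u

namespace CfsgLib.ProdFusion

variable {G : Type u} [Group G]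

/-- The elements conjugate into `S₁`. -/
def conjInto (S₁ : Subgroup G) : Set G := {x | ∃ g : G, g * x * g⁻¹ ∈ S₁}

theorem subset_conjInto (S₁ : Subgroup G) : (S₁ : Set G) ⊆ conjInto S₁ :=
  fun x hx => ⟨1, by simpa using hx⟩

theorem conjInto_conj (S₁ : Subgroup G) (g : G) {x : G} (hx : x ∈ conjInto S₁) :
    g * x * g⁻¹ ∈ conjInto S₁ := by
  obtain ⟨h, hh⟩ := hx
  exact ⟨h * g⁻¹, by simpa [mul_assoc] using hh⟩

variable [Finite G] {P : Sylow 2 G} {S₁ S₂ : Subgroup G}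

theorem conjInto_two (h₁ : S₁ ≤ (P : Subgroup G)) {x : G} (hx : x ∈ conjInto S₁) :
    ∃ k : ℕ, orderOf x = 2 ^ k := by
  obtain ⟨g, hg⟩ := hx
  obtain ⟨k, hk⟩ := IsPGroup.iff_orderOf.mp (P.isPGroup'.to_le h₁) ⟨_, hg⟩
  rw [Subgroup.orderOf_mk, CfsgLib.Invol.orderOf_conj] at hk
  exact ⟨k, hk⟩

/-- Elements conjugate into `S₁` that a conjugation moves into `P` land in `S₁`. -/
theorem mem_of_conjInto (h₁ : Cfsg.IsStronglyClosed S₁ (P : Subgroup G)) {x : G}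
    (hx : x ∈ conjInto S₁) {g : G} (hg : g * x * g⁻¹ ∈ (P : Subgroup G)) : g * x * g⁻¹ ∈ S₁ := by
  obtain ⟨h, hh⟩ := hx
  have e : g * h⁻¹ * (h * x * h⁻¹) * (g * h⁻¹)⁻¹ = g * x * g⁻¹ := by simp [mul_assoc]
  exact e ▸ h₁.2 _ hh (g * h⁻¹) (e ▸ hg)

theorem setting_of_closed (h₁ : Cfsg.IsStronglyClosed S₁ (P : Subgroup G))
    (h₂ : Cfsg.IsStronglyClosed S₂ (P : Subgroup G)) (hcomm : ∀ a ∈ S₁, ∀ b ∈ S₂, a * b = b * a)
    (hdisj : S₁ ⊓ S₂ = ⊥) : Setting (conjInto S₁) (conjInto S₂) := by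
  haveI : Fact (Nat.Prime 2) := ⟨Nat.prime_two⟩
  have hto : ∀ R : Subgroup G, IsPGroup 2 R → ∃ g : G, ∀ x ∈ R, g * x * g⁻¹ ∈ (P : Subgroup G) := by
    intro R hR
    obtain ⟨g, hg⟩ := CfsgLib.TwoFusion.ConjUtil.exists_conjMap_le P hR
    exact ⟨g, fun x hx => hg ⟨x, hx, rfl⟩⟩
  have hmul : ∀ {S : Subgroup G}, Cfsg.IsStronglyClosed S (P : Subgroup G) →
      ∀ R : Subgroup G, IsPGroup 2 R → ∀ x ∈ conjInto S, x ∈ R → ∀ y ∈ conjInto S, y ∈ R →
        x * y ∈ conjInto S := by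
    intro S hS R hR x hx hxR y hy hyR
    obtain ⟨g, hg⟩ := hto R hR
    refine ⟨g, ?_⟩
    rw [← conj_mul]
    exact mul_mem (mem_of_conjInto hS hx (hg x hxR)) (mem_of_conjInto hS hy (hg y hyR))
  refine ⟨subset_conjInto S₁ (one_mem S₁), subset_conjInto S₂ (one_mem S₂),
    fun g _ h => conjInto_conj S₁ g h, fun g _ h => conjInto_conj S₂ g h,
    fun _ h => conjInto_two h₁.1 h, fun _ h => conjInto_two h₂.1 h, hmul h₁, hmul h₂, ?_, ?_⟩
  · intro R hR a ha haR b hb hbR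
    obtain ⟨g, hg⟩ := hto R hR
    have h := hcomm _ (mem_of_conjInto h₁ ha (hg a haR)) _ (mem_of_conjInto h₂ hb (hg b hbR))
    rw [conj_mul, conj_mul, mul_left_inj, mul_right_inj] at h
    exact h
  · intro x hA hB
    obtain ⟨k, hk⟩ := conjInto_two h₁.1 hA
    obtain ⟨g, hg⟩ := CfsgLib.TwoFusion.ConjUtil.exists_conj_mem P hk
    have h : g * x * g⁻¹ ∈ S₁ ⊓ S₂ := ⟨mem_of_conjInto h₁ hA hg, mem_of_conjInto h₂ hB hg⟩
    rw [hdisj, mem_bot, mul_inv_eq_one, mul_eq_left] at h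
    exact h

/-- The normal closures commute when both subgroups are generated by involutions. -/
theorem normalClosure_commute (hO : Cfsg.oddCore G = ⊥)
    (h₁ : Cfsg.IsStronglyClosed S₁ (P : Subgroup G)) (h₂ : Cfsg.IsStronglyClosed S₂ (P : Subgroup G))
    (hcomm : ∀ a ∈ S₁, ∀ b ∈ S₂, a * b = b * a) (hdisj : S₁ ⊓ S₂ = ⊥)
    (g₁ : S₁ ≤ closure {x : G | x ∈ S₁ ∧ x * x = 1})
    (g₂ : S₂ ≤ closure {x : G | x ∈ S₂ ∧ x * x = 1}) :
    ⁅normalClosure (S₁ : Set G), normalClosure (S₂ : Set G)⁆ = ⊥ := by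
  have hset := setting_of_closed h₁ h₂ hcomm hdisj
  set T₁ := {x : G | x ∈ conjInto S₁ ∧ x * x = 1} with hT₁
  set T₂ := {x : G | x ∈ conjInto S₂ ∧ x * x = 1} with hT₂
  have hle : ∀ {S : Subgroup G}, S ≤ closure {x : G | x ∈ S ∧ x * x = 1} →
      normalClosure (S : Set G) ≤ closure {x : G | x ∈ conjInto S ∧ x * x = 1} := by
    intro S hS
    haveI := normal_closure_of_conj (S := {x : G | x ∈ conjInto S ∧ x * x = 1})
      fun g x hx => ⟨conjInto_conj S g hx.1, sq_conj g hx.2⟩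
    refine normalClosure_le_normal fun x hx => ?_
    exact closure_mono (by exact fun y hy => ⟨subset_conjInto S hy.1, hy.2⟩) (hS hx)
  rw [eq_bot_iff]
  refine (commutator_mono (hle g₁) (hle g₂)).trans ?_
  rw [le_bot_iff, commutator_eq_bot_iff_le_centralizer, centralizer_closure, closure_le]
  intro a ha
  rw [SetLike.mem_coe, mem_centralizer_iff]
  intro b hb
  exact (commute_of_core hset hO ha.1 hb.1 ha.2 hb.2).eq.symm

/-- A central element of the Sylow factor `S₂` inside `⟨S₁^G⟩` is trivial. -/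
theorem inf_normalClosure_eq_bot (h₁ : Cfsg.IsStronglyClosed S₁ (P : Subgroup G))
    (hprod : Cfsg.IsInternalDirectProduct S₁ S₂ (P : Subgroup G))
    (hcent : S₂ ⊓ normalClosure (S₁ : Set G) ≤ center G) :
    S₂ ⊓ normalClosure (S₁ : Set G) = ⊥ := by
  classical
  haveI : Fact (Nat.Prime 2) := ⟨Nat.prime_two⟩
  obtain ⟨hS₁P, hS₂P, hc, hd, hsup⟩ := hprod
  set N := normalClosure (S₁ : Set G) with hN
  set T : Subgroup N := ((P : Subgroup G) ⊓ N).subgroupOf N with hT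
  haveI : T.FiniteIndex := inferInstance
  have hS₁N : S₁ ≤ N := fun x hx => subset_normalClosure hx
  have hdec : ∀ t : T, ∃ z : center G, (z : G) ∈ S₂ ∧ ((t : N) : G) * (z : G)⁻¹ ∈ S₁ := by
    rintro ⟨⟨t, htN⟩, ht⟩
    have htP : t ∈ S₁ ⊔ S₂ := hsup.ge ht.1
    have hn : S₂ ≤ normalizer (S₁ : Set G) := fun y hy => centralizer_le_normalizer _
      (mem_centralizer_iff.mpr fun x hx => hc x hx y hy)
    obtain ⟨x, hx, y, hy, rfl⟩ := (CfsgLib.Solvable.mem_sup_of_le_normalizer hn).mp htP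
    have hyN : y ∈ N := by simpa using mul_mem (inv_mem (hS₁N hx)) htN
    exact ⟨⟨y, hcent ⟨hy, hyN⟩⟩, hy, by simpa using hx⟩
  choose f hf₂ hf₁ using hdec
  have huniq : ∀ (t : T) (z : center G), (z : G) ∈ S₂ → ((t : N) : G) * (z : G)⁻¹ ∈ S₁ → f t = z := by
    intro t z hz2 hz1
    have h : (z : G) * (f t : G)⁻¹ ∈ S₁ ⊓ S₂ := by
      refine mem_inf.mpr ⟨?_, mul_mem hz2 (inv_mem (hf₂ t))⟩
      simpa using mul_mem (inv_mem hz1) (hf₁ t)
    rw [hd, mem_bot, mul_inv_eq_one] at h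
    exact Subtype.ext h.symm
  let φ : T →* center G :=
    { toFun := f
      map_one' := huniq 1 1 (one_mem S₂) (by simp)
      map_mul' := fun s t => huniq (s * t) (f s * f t) (mul_mem (hf₂ s) (hf₂ t)) (by
        have e : (((s * t : T) : N) : G) * ((f s * f t : center G) : G)⁻¹ =
            (((s : N) : G) * (f s : G)⁻¹) * (((t : N) : G) * (f t : G)⁻¹) := by
          have hs := Subgroup.mem_center_iff.mp (inv_mem (f s).2) (((t : N) : G) * (f t : G)⁻¹)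
          push_cast
          rw [mul_inv_rev]
          calc ((s : N) : G) * ((t : N) : G) * ((f t : G)⁻¹ * (f s : G)⁻¹)
              = ((s : N) : G) * ((((t : N) : G) * (f t : G)⁻¹) * (f s : G)⁻¹) := by
                simp only [mul_assoc]
            _ = ((s : N) : G) * (f s : G)⁻¹ * (((t : N) : G) * (f t : G)⁻¹) := by
                rw [hs]; simp only [mul_assoc]
        rw [e]
        exact mul_mem (hf₁ s) (hf₁ t)) }
  have hker : ∀ u : N, (u : G) ∈ Group.conjugatesOfSet (S₁ : Set G) → φ.transfer u = 1 := by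
    intro u hu
    obtain ⟨s, hs, hsu⟩ := Group.mem_conjugatesOfSet_iff.mp hu
    obtain ⟨g, hg⟩ := isConj_iff.mp hsu
    have hfac : ∀ (k : ℕ) (n : N) (h : n⁻¹ * u ^ k * n ∈ T), φ ⟨n⁻¹ * u ^ k * n, h⟩ = 1 := by
      intro k n h
      refine huniq _ 1 (one_mem S₂) ?_
      have hP : ((n : G))⁻¹ * g * s ^ k * ((n : G)⁻¹ * g)⁻¹ ∈ (P : Subgroup G) := by
        have h2 : ((n⁻¹ * u ^ k * n : N) : G) ∈ (P : Subgroup G) := h.1
        rw [Subgroup.coe_mul, Subgroup.coe_mul, Subgroup.coe_inv, SubgroupClass.coe_pow, ← hg,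
          conj_pow] at h2
        simpa [mul_assoc] using h2
      have h3 := h₁.2 (s ^ k) (pow_mem hs k) _ hP
      have e : ((n⁻¹ * u ^ k * n : N) : G) = (n : G)⁻¹ * g * s ^ k * ((n : G)⁻¹ * g)⁻¹ := by
        rw [Subgroup.coe_mul, Subgroup.coe_mul, Subgroup.coe_inv, SubgroupClass.coe_pow, ← hg,
          conj_pow]
        simp [mul_assoc]
      show ((n⁻¹ * u ^ k * n : N) : G) * ((1 : center G) : G)⁻¹ ∈ S₁
      rw [e]
      simpa using h3
    haveI : Fintype (Quotient (MulAction.orbitRel (zpowers u) (N ⧸ T))) := Fintype.ofFinite _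
    rw [MonoidHom.transfer_eq_prod_quotient_orbitRel_zpowers_quot φ u]
    exact Finset.prod_eq_one fun q _ => hfac _ _ _
  have hone : ∀ u : N, φ.transfer u = 1 := by
    suffices h : N ≤ φ.transfer.ker.map N.subtype by
      intro u
      obtain ⟨v, hv, hvu⟩ := h u.2
      rw [← Subtype.ext hvu]
      exact hv
    conv_lhs => rw [hN, normalClosure]
    rw [closure_le]
    intro x hx
    exact ⟨⟨x, subset_closure hx⟩, hker _ hx, rfl⟩
  rw [eq_bot_iff]
  rintro x ⟨hx2, hxN⟩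
  have hxc := hcent ⟨hx2, hxN⟩
  have key : ∀ (k : ℕ) (n : N), n⁻¹ * (⟨x, hxN⟩ : N) ^ k * n ∈ T →
      n⁻¹ * (⟨x, hxN⟩ : N) ^ k * n = (⟨x, hxN⟩ : N) ^ k := by
    intro k n _
    refine Subtype.ext ?_
    show (n : G)⁻¹ * x ^ k * n = x ^ k
    rw [mul_assoc, ← Subgroup.mem_center_iff.mp (pow_mem hxc k) (n : G), inv_mul_cancel_left]
  have h1 := hone ⟨x, hxN⟩
  rw [MonoidHom.transfer_eq_pow φ _ key] at h1
  have h2 : f _ = ⟨x ^ T.index, pow_mem hxc _⟩ :=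
    huniq ⟨(⟨x, hxN⟩ : N) ^ T.index, MonoidHom.transfer_eq_pow_aux _ key⟩ _ (pow_mem hx2 _) (by simp)
  have h3 : x ^ T.index = 1 := congrArg Subtype.val (h2.symm.trans h1)
  obtain ⟨j, hj⟩ := IsPGroup.iff_orderOf.mp P.isPGroup' ⟨x, hS₂P hx2⟩
  rw [Subgroup.orderOf_mk] at hj
  have hodd : Odd T.index :=
    CfsgLib.TwoFusion.FusionTools.odd_relIndex_inf (P : Subgroup G) N
      (CfsgLib.TwoFusion.FusionTools.sylow_index_odd P)
  rw [mem_bot, ← orderOf_eq_one_iff, hj]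
  exact Nat.eq_one_of_dvd_coprimes ((Nat.coprime_two_left.mpr hodd).pow_left j) dvd_rfl
    (hj ▸ orderOf_dvd_of_pow_eq_one h3)

/-- The splitting. -/
theorem direct_product (hO : Cfsg.oddCore G = ⊥)
    (h₁ : Cfsg.IsStronglyClosed S₁ (P : Subgroup G)) (h₂ : Cfsg.IsStronglyClosed S₂ (P : Subgroup G))
    (hprod : Cfsg.IsInternalDirectProduct S₁ S₂ (P : Subgroup G))
    (g₁ : S₁ ≤ closure {x : G | x ∈ S₁ ∧ x * x = 1})
    (g₂ : S₂ ≤ closure {x : G | x ∈ S₂ ∧ x * x = 1})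
    (hO' : ∀ N : Subgroup G, N.Normal → Odd N.index → N = ⊤) :
    Cfsg.IsInternalDirectProduct (normalClosure (S₁ : Set G)) (normalClosure (S₂ : Set G)) ⊤ ∧
      (P : Subgroup G) ⊓ normalClosure (S₁ : Set G) = S₁ ∧
      (P : Subgroup G) ⊓ normalClosure (S₂ : Set G) = S₂ := by
  haveI : Fact (Nat.Prime 2) := ⟨Nat.prime_two⟩
  obtain ⟨hS₁P, hS₂P, hc, hd, hsup⟩ := id hprod
  set N₁ := normalClosure (S₁ : Set G) with hN₁
  set N₂ := normalClosure (S₂ : Set G) with hN₂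
  have hcomm := commutator_eq_bot_iff_le_centralizer.mp
    (normalClosure_commute hO h₁ h₂ hc hd g₁ g₂)
  have hS₁N : S₁ ≤ N₁ := fun x hx => subset_normalClosure hx
  have hS₂N : S₂ ≤ N₂ := fun x hx => subset_normalClosure hx
  have hPN : (P : Subgroup G) ≤ N₁ ⊔ N₂ := hsup.ge.trans (sup_le_sup hS₁N hS₂N)
  have htop : N₁ ⊔ N₂ = ⊤ := hO' _ inferInstance
    ((CfsgLib.TwoFusion.FusionTools.sylow_index_odd P).of_dvd_nat (index_dvd_of_le hPN))
  have hcen : N₁ ⊓ N₂ ≤ center G := by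
    intro x hx
    have hle : N₁ ⊔ N₂ ≤ centralizer ({x} : Set G) := sup_le
      (fun a ha => mem_cent.mpr (mem_centralizer_iff.mp (hcomm ha) x hx.2).symm)
      (fun b hb => mem_cent.mpr (mem_centralizer_iff.mp (hcomm hx.1) b hb))
    rw [htop] at hle
    exact Subgroup.mem_center_iff.mpr fun g => (mem_cent.mp (hle (mem_top g))).eq
  have hX₁ := inf_normalClosure_eq_bot h₁ hprod
    ((le_inf inf_le_right (inf_le_left.trans hS₂N)).trans hcen)
  have hX₂ := inf_normalClosure_eq_bot (S₁ := S₂) (S₂ := S₁) h₂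
    ⟨hS₂P, hS₁P, fun a ha b hb => (hc b hb a ha).symm, by rwa [inf_comm], by rwa [sup_comm]⟩
    ((le_inf (inf_le_left.trans hS₁N) inf_le_right).trans hcen)
  have hn : S₂ ≤ normalizer (S₁ : Set G) := fun y hy => centralizer_le_normalizer _
    (mem_centralizer_iff.mpr fun x hx => hc x hx y hy)
  have hP₁ : (P : Subgroup G) ⊓ N₁ = S₁ := by
    refine le_antisymm ?_ (le_inf hS₁P hS₁N)
    rintro t ⟨htP, htN⟩
    obtain ⟨x, hx, y, hy, rfl⟩ := (CfsgLib.Solvable.mem_sup_of_le_normalizer hn).mp (hsup.ge htP)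
    have h : y ∈ S₂ ⊓ N₁ := mem_inf.mpr ⟨hy, by simpa using N₁.mul_mem (N₁.inv_mem (hS₁N hx)) htN⟩
    rw [hX₁, mem_bot] at h
    simpa [h] using hx
  have hP₂ : (P : Subgroup G) ⊓ N₂ = S₂ := by
    refine le_antisymm ?_ (le_inf hS₂P hS₂N)
    rintro t ⟨htP, htN⟩
    obtain ⟨x, hx, y, hy, rfl⟩ := (CfsgLib.Solvable.mem_sup_of_le_normalizer hn).mp (hsup.ge htP)
    have h : x ∈ S₁ ⊓ N₂ := mem_inf.mpr ⟨hx, by simpa using N₂.mul_mem htN (N₂.inv_mem (hS₂N hy))⟩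
    rw [hX₂, mem_bot] at h
    simpa [h] using hy
  refine ⟨⟨le_top, le_top, fun a ha b hb => (mem_centralizer_iff.mp (hcomm ha) b hb).symm, ?_, htop⟩,
    hP₁, hP₂⟩
  rw [eq_bot_iff]
  intro x hx
  have hxc := hcen hx
  -- `x` is a 2-element
  set q := orderOf x with hq
  obtain ⟨a, m, hm, ham⟩ := Nat.exists_eq_two_pow_mul_odd (orderOf_pos x).ne'
  have hy : x ^ (2 ^ a) = 1 := by
    have hn' : (zpowers (x ^ (2 ^ a))).Normal := ⟨fun z hz g => by
      rwa [Subgroup.mem_center_iff.mp (zpowers_le.mpr (pow_mem hxc _) hz) g, mul_inv_cancel_right]⟩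
    have hodd : Odd (Nat.card (zpowers (x ^ (2 ^ a)))) := by
      rw [Nat.card_zpowers, orderOf_pow_of_dvd (by positivity) (ham ▸ Dvd.intro _ rfl), ham,
        Nat.mul_div_cancel_left _ (by positivity)]
      exact hm
    have h := CfsgLib.Solvable.le_pPrimeCore hn' (Nat.coprime_two_right.mpr hodd)
    rw [show Cfsg.pPrimeCore 2 G = ⊥ from hO] at h
    exact mem_bot.mp (h (mem_zpowers _))
  obtain ⟨j, -, hj⟩ := (Nat.dvd_prime_pow Nat.prime_two).mp (orderOf_dvd_of_pow_eq_one hy)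
  obtain ⟨g, hg⟩ := CfsgLib.TwoFusion.ConjUtil.exists_conj_mem P hj
  rw [Subgroup.mem_center_iff.mp hxc g, mul_inv_cancel_right] at hg
  have h : x ∈ S₁ ⊓ S₂ := ⟨hP₁.le ⟨hg, hx.1⟩, hP₂.le ⟨hg, hx.2⟩⟩
  rwa [hd] at h

end CfsgLib.ProdFusion
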