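import Cfsg.Agent.Lib.ProdFusion.Omega
import Cfsg.Agent.Lib.Signalizer.CommutatorFixedMain
import Cfsg.Agent.Lib.Invol.GlaubermanZStar
import Cfsg.Agent.Lib.FT.Final

/-!
Four groups inside one of the two fused sets, and the fixed points of a four group in
`[omega e, B]`.
-/

set_option autoImplicit false
set_option linter.unusedSectionVars false
set_option maxHeartbeats 1600000

open Subgroup
open scoped commutatorElement

universe u

namespace CfsgLib.ProdFusion

variable {G : Type u} [Group G]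

/-- A four group contained in `𝒮`. -/
structure Four (𝒮 : Set G) (B : Subgroup G) : Prop where
  elem : Cfsg.IsElementaryAbelian 2 B
  card : Nat.card B = 4
  sub : ∀ x ∈ B, x ∈ 𝒮

theorem mem_zpowers_sq {k : G} (hk : k * k = 1) {t : G} (ht : t ∈ zpowers k) : t = 1 ∨ t = k := by
  obtain ⟨i, rfl⟩ := mem_zpowers_iff.mp ht
  rcases Int.even_or_odd i with ⟨j, rfl⟩ | ⟨j, rfl⟩
  · exact Or.inl (by rw [zpow_add, ← (Commute.refl k).mul_zpow, hk, one_zpow])
  · exact Or.inr (by
      rw [zpow_add, two_mul, zpow_add, ← (Commute.refl k).mul_zpow, hk, one_zpow, one_mul,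
        zpow_one])

theorem isPGroup_zpowers_sq {k : G} (hk : k * k = 1) : IsPGroup 2 (zpowers k) := by
  intro t
  refine ⟨1, Subtype.ext ?_⟩
  rcases mem_zpowers_sq hk t.2 with h | h <;> simp [h, pow_two, hk]

theorem commute_zpowers {x k : G} (h : Commute x k) {t : G} (ht : t ∈ zpowers k) : Commute x t := by
  obtain ⟨i, rfl⟩ := mem_zpowers_iff.mp ht
  exact h.zpow_right i

theorem mem_centralizer_of {H : Subgroup G} {x : G} (h : ∀ t ∈ H, Commute t x) :
    x ∈ centralizer (H : Set G) := mem_centralizer_iff.mpr fun t ht => (h t ht).eq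

theorem commutator_inverted {c t : G} (ht : t * t = 1) :
    t * ⁅c, t⁆ * t⁻¹ = ⁅c, t⁆⁻¹ := by
  simp only [commutatorElement_def, mul_inv_rev, inv_inv, inv_eq_of_sq ht, mul_assoc, ht, mul_one]

theorem commutatorElement_commute {c t v : G} (hc : Commute c v) (ht : Commute t v) :
    Commute ⁅c, t⁆ v := by
  rw [commutatorElement_def]
  exact ((hc.mul_left ht).mul_left hc.inv_left).mul_left ht.inv_left

theorem commutator_zpowers_le_of {K W : Subgroup G} {k : G} (hk : k * k = 1)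
    (h : ∀ c ∈ K, ⁅c, k⁆ ∈ W) : ⁅K, zpowers k⁆ ≤ W := by
  rw [commutator_le]
  intro c hc t ht
  rcases mem_zpowers_sq hk ht with rfl | rfl
  · rw [commutatorElement_one_right]; exact one_mem W
  · exact h c hc

variable {𝒮 : Set G} {B : Subgroup G}

theorem Four.sq (h : Four 𝒮 B) {x : G} (hx : x ∈ B) : x * x = 1 := by
  simpa [pow_two] using h.elem.2 x hx

theorem Four.commute (h : Four 𝒮 B) {x y : G} (hx : x ∈ B) (hy : y ∈ B) : Commute x y :=
  (congrArg Subtype.val (h.elem.1.is_comm.comm ⟨x, hx⟩ ⟨y, hy⟩) : x * y = y * x)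

theorem Four.exists_ne_one (h : Four 𝒮 B) : ∃ x ∈ B, x ≠ 1 := by
  by_contra hcon
  push Not at hcon
  have := h.card
  rw [(eq_bot_iff_forall B).2 hcon, card_bot] at this
  exact absurd this (by norm_num)

theorem Four.cases [Finite G] (h : Four 𝒮 B) {k β x : G} (hk : k ∈ B) (hk1 : k ≠ 1) (hβ : β ∈ B)
    (hβ1 : β ≠ 1) (hβk : β ≠ k) (hx : x ∈ B) : x = 1 ∨ x = k ∨ x = β ∨ x = k * β := by
  classical
  by_contra hne
  push Not at hne
  obtain ⟨hx1, hxk, hxβ, hxkβ⟩ := hne
  have hkβ1 : k * β ≠ 1 := fun h0 => hβk (by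
    rw [← inv_eq_of_mul_eq_one_right h0, inv_eq_of_sq (h.sq hk)])
  have hkβk : k * β ≠ k := fun h0 => hβ1 (mul_left_cancel (h0.trans (mul_one k).symm))
  have hkββ : k * β ≠ β := fun h0 => hk1 (mul_right_cancel (h0.trans (one_mul β).symm))
  haveI := Fintype.ofFinite B
  have h5 : ({1, ⟨k, hk⟩, ⟨β, hβ⟩, ⟨k * β, mul_mem hk hβ⟩, ⟨x, hx⟩} : Finset B).card = 5 := by
    simp [Subtype.ext_iff, hk1.symm, hβ1.symm, hkβ1.symm, hx1.symm, hβk.symm, hkβk.symm, hxk.symm,
      hkββ.symm, hxβ.symm, hxkβ.symm]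
  have h4 := Finset.card_le_univ ({1, ⟨k, hk⟩, ⟨β, hβ⟩, ⟨k * β, mul_mem hk hβ⟩, ⟨x, hx⟩} : Finset B)
  rw [h5, ← Nat.card_eq_fintype_card, h.card] at h4
  omega

theorem Four.map (h : Four 𝒮 B) (hS : ∀ g : G, ∀ x ∈ 𝒮, g * x * g⁻¹ ∈ 𝒮) (g : G) :
    Four 𝒮 (B.map (MulAut.conj g).toMonoidHom) := by
  refine ⟨⟨⟨⟨fun x y => Subtype.ext ?_⟩⟩, ?_⟩, ?_, ?_⟩
  · obtain ⟨a, ha, hx⟩ := x.2
    obtain ⟨b, hb, hy⟩ := y.2
    show (x : G) * y = y * x
    rw [← hx, ← hy, ← map_mul, ← map_mul, (h.commute ha hb).eq]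
  · rintro _ ⟨a, ha, rfl⟩
    rw [← map_pow, h.elem.2 a ha, map_one]
  · rw [CfsgLib.TwoFusion.ConjUtil.card_conjMap, h.card]
  · rintro _ ⟨a, ha, rfl⟩
    exact hS g a (h.sub a ha)

variable [Finite G]

theorem coprime_of_two_group {A K : Subgroup G} (hA : IsPGroup 2 A) (hK : Odd (Nat.card K)) :
    (Nat.card A).Coprime (Nat.card K) := by
  haveI : Fact (Nat.Prime 2) := ⟨Nat.prime_two⟩
  obtain ⟨n, hn⟩ := hA.exists_card_eq
  rw [hn]
  exact (Nat.coprime_two_left.mpr hK).pow_left n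

theorem decomposition {A K : Subgroup G} (hA : IsPGroup 2 A) (hK : Odd (Nat.card K))
    (hAK : A ≤ normalizer (K : Set G)) : K ≤ ⁅K, A⁆ ⊔ (K ⊓ centralizer (A : Set G)) :=
  (CfsgLib.Solvable.commutator_sup_centralizer hAK (coprime_of_two_group hA hK)
    (Or.inr (CfsgLib.FT.solvable_of_odd hK))).ge

theorem commutator_idem {A K : Subgroup G} (hA : IsPGroup 2 A) (hK : Odd (Nat.card K))
    (hAK : A ≤ normalizer (K : Set G)) : ⁅⁅K, A⁆, A⁆ = ⁅K, A⁆ :=
  CfsgLib.Solvable.commutator_commutator_eq hAK (coprime_of_two_group hA hK)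
    (Or.inr (CfsgLib.FT.solvable_of_odd hK))

theorem Four.isPGroup (h : Four 𝒮 B) : IsPGroup 2 B :=
  haveI : Fact (Nat.Prime 2) := ⟨Nat.prime_two⟩
  CfsgLib.Signalizer.elementary_isPGroup h.elem

theorem Four.le_of_centralizers (h : Four 𝒮 B) {K W : Subgroup G} (hK : Odd (Nat.card K))
    (hBK : B ≤ normalizer (K : Set G))
    (hW : ∀ β ∈ B, β ≠ 1 → K ⊓ centralizer ({β} : Set G) ≤ W) : K ≤ W :=
  haveI : Fact (Nat.Prime 2) := ⟨Nat.prime_two⟩
  CfsgLib.Signalizer.le_of_centralizers h.elem (by rw [h.card]; norm_num) hK.not_two_dvd_nat hBK hW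

/-- Fixed points of a four group in an odd order `Y = [Y, B]`. -/
theorem Four.fixed_le (h : Four 𝒮 B) {Y W : Subgroup G} (hY : Odd (Nat.card Y))
    (hBY : B ≤ normalizer (Y : Set G)) (hYB : ⁅Y, B⁆ = Y)
    (hW : ∀ β ∈ B, β ≠ 1 → Y ⊓ centralizer (B : Set G) ⊓ ⁅Y ⊓ centralizer ({β} : Set G), B⁆ ≤ W) :
    Y ⊓ centralizer (B : Set G) ≤ W := by
  haveI : Fact (Nat.Prime 2) := ⟨Nat.prime_two⟩
  haveI := h.elem.1
  rw [CfsgLib.Signalizer.CommFix.fixed_eq ⟨h.elem.1, le_rfl, hBY, coprime_of_two_group h.isPGroup hY,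
    CfsgLib.FT.solvable_of_odd hY, hYB⟩]
  refine iSup_le fun B₀ => ?_
  obtain ⟨β, hβ, hβ1⟩ : ∃ β ∈ (B₀ : Subgroup G), β ≠ 1 := by
    by_contra hno
    push Not at hno
    haveI hn : ((B₀ : Subgroup G).subgroupOf B).Normal :=
      ⟨fun m hm g => by rwa [mul_comm' g m, mul_inv_cancel_right]⟩
    haveI : IsCyclic (↥B ⧸ (B₀ : Subgroup G).subgroupOf B) := B₀.2.2
    apply CfsgLib.Signalizer.elementary_not_isCyclic h.elem (by rw [h.card]; norm_num)
    refine isCyclic_of_injective (QuotientGroup.mk' ((B₀ : Subgroup G).subgroupOf B)) ?_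
    rw [← MonoidHom.ker_eq_bot_iff, QuotientGroup.ker_mk', eq_bot_iff]
    exact fun x hx => mem_bot.mpr (Subtype.ext (hno _ hx))
  exact le_trans (inf_le_inf le_rfl (commutator_mono (inf_le_inf_left _
    (centralizer_le (Set.singleton_subset_iff.mpr hβ))) le_rfl)) (hW β (B₀.2.1 hβ) hβ1)

variable {𝒜 ℬ : Set G} (M : Minimal 𝒜 ℬ)
include M

/-- An isolated involution of `𝒜` is impossible. -/
theorem Minimal.not_isolated {a : G} (ha : a ∈ 𝒜) (ha2 : a * a = 1) (ha1 : a ≠ 1) (P : Sylow 2 G)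
    (haP : a ∈ P) : ∃ g : G, g * a * g⁻¹ ∈ P ∧ g * a * g⁻¹ ≠ a := by
  by_contra hno
  push Not at hno
  obtain ⟨N, hN, hNodd, hNc⟩ := CfsgLib.Invol.zStar_sylow P a
    (CfsgLib.Invol.orderOf_eq_two ha1 ha2) hno
  have hbot : N = ⊥ := eq_bot_iff.mpr (M.core ▸
    CfsgLib.Solvable.le_pPrimeCore hN (Nat.coprime_two_right.mpr hNodd))
  refine M.ncA a ha ha2 ha1 (Subgroup.mem_center_iff.mpr fun g => ?_)
  have h1 := hNc g
  rw [hbot, mem_bot, mul_inv_eq_one, mul_inv_eq_iff_eq_mul] at h1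
  exact h1.symm

/-- A commuting pair extends to a four group in `𝒜` centralised by `b`. -/
theorem Minimal.exists_four {a b : G} (ha : a ∈ 𝒜) (ha2 : a * a = 1) (ha1 : a ≠ 1) (hb : b ∈ ℬ)
    (hb2 : b * b = 1) (hab : Commute a b) :
    ∃ A₁ : Subgroup G, Four 𝒜 A₁ ∧ a ∈ A₁ ∧ ∀ x ∈ A₁, Commute x b := by
  haveI : Fact (Nat.Prime 2) := ⟨Nat.prime_two⟩
  have hn : zpowers a ≤ normalizer (zpowers b : Set G) := zpowers_le.mpr
    (centralizer_le_normalizer _ (mem_centralizer_of fun t ht => (commute_zpowers hab ht).symm))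
  obtain ⟨P, hP⟩ := (IsPGroup.to_sup_of_normal_right' (isPGroup_zpowers_sq ha2)
    (isPGroup_zpowers_sq hb2) hn).exists_le_sylow
  have haP : a ∈ (P : Subgroup G) := hP (mem_sup_left (mem_zpowers a))
  have hbP : b ∈ (P : Subgroup G) := hP (mem_sup_right (mem_zpowers b))
  obtain ⟨g, hgP, hga⟩ := M.not_isolated ha ha2 ha1 P haP
  set a₂ := g * a * g⁻¹ with ha₂
  have ha₂A : a₂ ∈ 𝒜 := M.setting.conjA g a ha
  have ha₂2 : a₂ * a₂ = 1 := sq_conj g ha2
  obtain ⟨a', ha'A, ha'P, ha'2, ha'1, ha'a, hca⟩ :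
      ∃ a' ∈ 𝒜, a' ∈ (P : Subgroup G) ∧ a' * a' = 1 ∧ a' ≠ 1 ∧ a' ≠ a ∧ Commute a a' := by
    by_cases hc : Commute a a₂
    · refine ⟨a₂, ha₂A, hgP, ha₂2, fun h0 => ha1 ?_, hga, hc⟩
      rw [ha₂, mul_inv_eq_one] at h0
      exact mul_left_cancel (h0.trans (mul_one g).symm)
    · set r := a * a₂ with hr
      have hrP : r ∈ (P : Subgroup G) := mul_mem haP hgP
      have hpow : ∀ n : ℕ, r ^ n ∈ 𝒜 := by
        intro n
        induction n with
        | zero => simpa using M.setting.oneA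
        | succ n ih =>
          rw [pow_succ]
          exact M.setting.mulA _ P.isPGroup' _ ih (pow_mem hrP n) _
            (M.setting.mulA _ P.isPGroup' a ha haP a₂ ha₂A hgP) hrP
      obtain ⟨j, hj⟩ := IsPGroup.iff_orderOf.mp P.isPGroup' ⟨r, hrP⟩
      rw [Subgroup.orderOf_mk] at hj
      rcases j with _ | j
      · exfalso
        rw [pow_zero, orderOf_eq_one_iff, hr, mul_eq_one_iff_eq_inv, inv_eq_of_sq ha₂2] at hj
        exact hc (hj ▸ Commute.refl _)
      set c := r ^ (2 ^ j) with hcd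
      have hc2 : c * c = 1 := by
        rw [hcd, ← pow_add, ← two_mul, ← pow_succ', ← hj, pow_orderOf_eq_one]
      have hc1 : c ≠ 1 := fun h0 => by
        have := Nat.le_of_dvd (pow_pos two_pos j) (orderOf_dvd_of_pow_eq_one h0)
        rw [hj, pow_succ] at this
        have := pow_pos (n := j) (show 0 < 2 by norm_num)
        omega
      have hinv : a * c * a⁻¹ = c⁻¹ :=
        CfsgLib.TwoFusion.inverted_pow (CfsgLib.Invol.conj_prod ha2 ha₂2) _
      have hac : Commute a c := by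
        rw [inv_eq_of_sq hc2] at hinv
        exact mul_inv_eq_iff_eq_mul.mp hinv
      refine ⟨c, hpow _, pow_mem hrP _, hc2, hc1, fun h0 => hc ?_, hac⟩
      have h1 : Commute a r := by
        rw [← h0]
        exact (Commute.refl r).pow_left _
      show a * a₂ = a₂ * a
      have h2 : a * r = r * a := h1.eq
      rw [hr, ← mul_assoc, ha2, one_mul] at h2
      calc a * a₂ = a * a₂ * a * a := by rw [mul_assoc (a * a₂), ha2, mul_one]
        _ = a₂ * a := by rw [← h2]
  have hn' : zpowers a' ≤ normalizer (zpowers a : Set G) := zpowers_le.mpr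
    (centralizer_le_normalizer _ (mem_centralizer_of fun t ht => (commute_zpowers hca.symm ht).symm))
  have hmem : ∀ x ∈ zpowers a ⊔ zpowers a', x = 1 ∨ x = a ∨ x = a' ∨ x = a * a' := by
    intro x hx
    obtain ⟨s, hs, t, ht, rfl⟩ := (CfsgLib.Solvable.mem_sup_of_le_normalizer hn').mp hx
    rcases mem_zpowers_sq ha2 hs with rfl | rfl <;> rcases mem_zpowers_sq ha'2 ht with rfl | rfl <;>
      simp
  have haa' : (a * a') * (a * a') = 1 := sq_of_commute ha2 ha'2 hca
  refine ⟨zpowers a ⊔ zpowers a', ⟨⟨⟨⟨fun x y => Subtype.ext ?_⟩⟩, ?_⟩, ?_, ?_⟩,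
    mem_sup_left (mem_zpowers a), ?_⟩
  · show (x : G) * y = y * x
    have hca' := hca.eq
    rcases hmem x x.2 with h | h | h | h <;> rcases hmem y y.2 with h' | h' | h' | h' <;>
      rw [h, h'] <;> first
        | rfl
        | simp only [one_mul, mul_one]
        | exact hca'
        | exact hca'.symm
        | exact ((Commute.refl a).mul_right hca).eq
        | exact ((Commute.refl a).mul_right hca).eq.symm
        | exact (hca.symm.mul_right (Commute.refl a')).eq
        | exact (hca.symm.mul_right (Commute.refl a')).eq.symm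
  · intro x hx
    rw [pow_two]
    rcases hmem x hx with h | h | h | h <;> rw [h] <;> first | simp | assumption
  · have hdis : Disjoint (zpowers a) (zpowers a') := by
      rw [disjoint_def]
      intro x hxa hxa'
      rcases mem_zpowers_sq ha2 hxa with h | h
      · exact h
      · rcases mem_zpowers_sq ha'2 hxa' with h' | h'
        · exact h'
        · exact absurd (h'.symm.trans h) ha'a
    rw [CfsgLib.Solvable.card_sup_of_disjoint hn' hdis, Nat.card_zpowers, Nat.card_zpowers,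
      CfsgLib.Invol.orderOf_eq_two ha1 ha2, CfsgLib.Invol.orderOf_eq_two ha'1 ha'2]
  · intro x hx
    rcases hmem x hx with h | h | h | h <;> rw [h]
    · exact M.setting.oneA
    · exact ha
    · exact ha'A
    · exact M.setting.mulA _ P.isPGroup' a ha haP a' ha'A ha'P
  · intro x hx
    have hb' : Commute a' b := M.setting.comm _ P.isPGroup' a' ha'A ha'P b hb hbP
    rcases hmem x hx with h | h | h | h <;> rw [h]
    · exact Commute.one_left b
    · exact hab
    · exact hb'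
    · exact hab.mul_left hb'

/-- The fixed points of `k` in `[omega e, B]`. -/
theorem Minimal.fixed_commutator_le {B : Subgroup G} (hB : Four ℬ B) {k a e : G} (hk : k ∈ B)
    (hk1 : k ≠ 1) (ha : a ∈ 𝒜) (ha2 : a * a = 1) (haB : ∀ β ∈ B, Commute a β)
    (he : e = a ∨ e = a * k) :
    ⁅omega e, B⁆ ⊓ centralizer ({k} : Set G) ≤ omega k := by
  have hkℬ := hB.sub k hk
  have hk2 := hB.sq hk
  have hkc : k ∉ center G := M.ncB k hkℬ hk2 hk1
  have hBe : ∀ β ∈ B, Commute β e := by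
    intro β hβ
    rcases he with rfl | rfl
    · exact (haB β hβ).symm
    · exact (haB β hβ).symm.mul_right (hB.commute hβ hk)
  have hge : ∀ g : G, Commute g a → Commute g k → Commute g e := by
    intro g h1 h2
    rcases he with rfl | rfl
    · exact h1
    · exact h1.mul_right h2
  set O := omega e with hO
  have hBO : B ≤ normalizer (O : Set G) := fun β hβ =>
    centralizer_le_normalizer_omega e (mem_cent.mpr (hBe β hβ))
  set Y := ⁅O, B⁆ with hY
  have hYO : Y ≤ O := CfsgLib.Solvable.commutator_le_of_normalizes hBO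
  have hYodd : Odd (Nat.card Y) := odd_of_le (omega_odd e) hYO
  have hBY : B ≤ normalizer (Y : Set G) := CfsgLib.Solvable.le_normalizer_commutator_right O B
  set X := Y ⊓ centralizer ({k} : Set G) with hX
  have hBk : B ≤ normalizer ((centralizer ({k} : Set G) : Subgroup G) : Set G) := fun β hβ =>
    le_normalizer (mem_cent.mpr (hB.commute hβ hk))
  have hBX : B ≤ normalizer (X : Set G) := CfsgLib.Signalizer.le_normalizer_inf hBY hBk
  -- commutators in `X`
  have hXB : ⁅X, B⁆ ≤ omega k := by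
    rw [commutator_le]
    intro c hc β hβ
    have hx : ⁅c, β⁆ ∈ X := CfsgLib.Solvable.commutator_le_of_normalizes hBX
      (commutator_mem_commutator hc hβ)
    exact M.symm.absorb hkc ha ha2 (hB.sub β hβ) (hB.sq hβ) (hB.commute hβ hk) (haB k hk) hge
      (hYO hx.1) (mem_cent.mp hx.2) (commutator_inverted (hB.sq hβ))
  refine (decomposition hB.isPGroup (odd_of_le hYodd inf_le_left) hBX).trans
    (sup_le hXB ((inf_le_inf_right _ inf_le_left).trans ?_))
  refine hB.fixed_le hYodd hBY (commutator_idem hB.isPGroup (omega_odd e) hBO) ?_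
  intro β hβ hβ1
  by_cases hβk : β = k
  · subst hβk
    exact inf_le_right.trans hXB
  have hβc : β ∉ center G := M.ncB β (hB.sub β hβ) (hB.sq hβ) hβ1
  have hBβ : B ≤ normalizer ((centralizer ({β} : Set G) : Subgroup G) : Set G) := fun t ht =>
    le_normalizer (mem_cent.mpr (hB.commute ht hβ))
  have hBYβ := CfsgLib.Signalizer.le_normalizer_inf hBY hBβ
  have hR : ⁅Y ⊓ centralizer ({β} : Set G), B⁆ ≤ omega β := by
    rw [commutator_le]
    intro c hc t ht
    -- the commutator is trivial or inverted by `k`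
    have hx : ⁅c, t⁆ ∈ Y ⊓ centralizer ({β} : Set G) :=
      CfsgLib.Solvable.commutator_le_of_normalizes hBYβ (commutator_mem_commutator hc ht)
    have hcβ : Commute c β := mem_cent.mp hc.2
    have hkey : ⁅c, k⁆ ∈ omega β := by
      have hx' : ⁅c, k⁆ ∈ Y ⊓ centralizer ({β} : Set G) :=
        CfsgLib.Solvable.commutator_le_of_normalizes hBYβ (commutator_mem_commutator hc hk)
      have hxk : k * ⁅c, k⁆ * k⁻¹ = ⁅c, k⁆⁻¹ := commutator_inverted hk2
      rcases he with rfl | rfl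
      · exact M.symm.absorb hβc ha ha2 hkℬ hk2 (hB.commute hk hβ) (haB β hβ)
          (fun g h _ => h) (hYO hx'.1) (mem_cent.mp hx'.2) hxk
      · have h1 : Commute ⁅c, k⁆ (a * k) := commute_of_mem_omega (hYO hx'.1)
        have hax : a * ⁅c, k⁆ * a⁻¹ = ⁅c, k⁆⁻¹ := by
          rw [← hxk]
          have h2 : a * k * ⁅c, k⁆ * (a * k)⁻¹ = ⁅c, k⁆ := by
            rw [← h1.eq, mul_inv_cancel_right]
          calc a * ⁅c, k⁆ * a⁻¹ = a * k * (k * ⁅c, k⁆ * k⁻¹) * (a * k)⁻¹ := by
                simp only [mul_inv_rev, inv_eq_of_sq hk2, mul_assoc]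
                rw [← mul_assoc k k, hk2, one_mul, ← mul_assoc k k (a⁻¹), hk2, one_mul]
            _ = k * ⁅c, k⁆ * k⁻¹ := by
                rw [hxk, ← conj_inv, h2]
        exact M.quad hβc ha hkℬ ha2 hk2 (haB k hk) (haB β hβ) (hB.commute hk hβ)
          (odd_orderOf_of_mem hYodd hx'.1) (mem_cent.mp hx'.2) hax hxk
    rcases hB.cases hk hk1 hβ hβ1 hβk ht with ht' | ht' | ht' | ht' <;> rw [ht']
    · rw [commutatorElement_one_right]; exact one_mem _
    · exact hkey
    · rw [show ⁅c, β⁆ = 1 by rw [commutatorElement_eq_one_iff_commute]; exact hcβ]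
      exact one_mem _
    · have e1 : ⁅c, k * β⁆ = ⁅c, k⁆ := by
        simp only [commutatorElement_def, mul_inv_rev]
        calc c * (k * β) * c⁻¹ * (β⁻¹ * k⁻¹) = c * k * (β * c⁻¹) * β⁻¹ * k⁻¹ := by
              simp only [mul_assoc]
          _ = c * k * c⁻¹ * k⁻¹ := by
              rw [← hcβ.inv_left.eq]
              simp only [mul_assoc, mul_inv_cancel_left]
      rw [e1]
      exact hkey
  rintro d ⟨⟨hdY, hdB⟩, hd⟩
  exact M.meet hkc ha ha2 (hB.sub β hβ) (hB.sq hβ) (haB k hk) (hB.commute hβ hk) hge (hYO hdY)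
    (hR hd) (mem_centralizer_iff.mp hdB k hk).symm

end CfsgLib.ProdFusion
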