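import Cfsg.Agent.Lib.ProdFusion.Four
import Cfsg.Agent.Lib.Signalizer.SolvableFunctor

/-!
The signalizer functor of a four group `A₁ ⊆ 𝒜` and an involution `k ∈ ℬ` commuting with it, and
the odd subgroup it generates.
-/

set_option autoImplicit false
set_option linter.unusedSectionVars false
set_option maxHeartbeats 1600000

open Subgroup
open scoped commutatorElement

universe u

namespace CfsgLib.ProdFusion

variable {G : Type u} [Group G]

/-- The odd subgroup of the pair `(A₁, k)`. -/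
def hull (A₁ : Subgroup G) (k : G) : Subgroup G :=
  ⨆ α : {α : G // α ∈ A₁ ∧ α ≠ 1},
    ⁅omega (α : G), zpowers k⁆ ⊔ (omega (α : G) ⊓ omega k)

/-- The part of `omega k` fixed by `A₁`. -/
def fix (A₁ : Subgroup G) (k : G) : Subgroup G :=
  omega k ⊓ centralizer (A₁ : Set G) ⊓ ⨅ α : {α : G // α ∈ A₁ ∧ α ≠ 1}, omega (α : G)

/-- The value of the functor at `k`. -/
def base (A₁ : Subgroup G) (k : G) : Subgroup G := ⁅omega k, A₁⁆ ⊔ fix A₁ k

/-- The value of the functor. -/
def val (A₁ : Subgroup G) (k v : G) : Subgroup G :=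
  ⁅omega v, zpowers k⁆ ⊔ (omega v ⊓ base A₁ k)

/-- A four group in `𝒜` commuting with the involution `k ∈ ℬ`. -/
structure Frame (𝒜 ℬ : Set G) (A₁ : Subgroup G) (k : G) : Prop where
  four : Four 𝒜 A₁
  mem : k ∈ ℬ
  sq : k * k = 1
  ne : k ≠ 1
  comm : ∀ α ∈ A₁, Commute α k

variable {𝒜 ℬ : Set G} {A₁ : Subgroup G} {k : G} [Finite G]

theorem Frame.mem_cases (F : Frame 𝒜 ℬ A₁ k) {v : G} (hv : v ∈ A₁ ⊔ zpowers k) :
    v ∈ A₁ ∨ ∃ α ∈ A₁, v = α * k := by
  have hn : zpowers k ≤ normalizer (A₁ : Set G) := zpowers_le.mpr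
    (centralizer_le_normalizer _ (mem_centralizer_of F.comm))
  obtain ⟨α, hα, t, ht, rfl⟩ := (CfsgLib.Solvable.mem_sup_of_le_normalizer hn).mp hv
  rcases mem_zpowers_sq F.sq ht with rfl | rfl
  · exact Or.inl (by rwa [mul_one])
  · exact Or.inr ⟨α, hα, rfl⟩

theorem Frame.commute (F : Frame 𝒜 ℬ A₁ k) {v : G} (hv : v ∈ A₁ ⊔ zpowers k) :
    (∀ α ∈ A₁, Commute α v) ∧ Commute k v := by
  rcases F.mem_cases hv with h | ⟨α, hα, rfl⟩
  · exact ⟨fun α hα => F.four.commute hα h, (F.comm v h).symm⟩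
  · exact ⟨fun β hβ => (F.four.commute hβ hα).mul_right (F.comm β hβ),
      (F.comm α hα).symm.mul_right (Commute.refl k)⟩

theorem Frame.commute' (F : Frame 𝒜 ℬ A₁ k) {v w : G} (hv : v ∈ A₁ ⊔ zpowers k)
    (hw : w ∈ A₁ ⊔ zpowers k) : Commute v w := by
  obtain ⟨h1, h2⟩ := F.commute hw
  rcases F.mem_cases hv with h | ⟨α, hα, rfl⟩
  · exact h1 v h
  · exact (h1 α hα).mul_left h2

variable (M : Minimal 𝒜 ℬ) (F : Frame 𝒜 ℬ A₁ k)
include M F

theorem Frame.notMem : k ∉ A₁ := fun h => F.ne (M.setting.disj k (F.four.sub k h) F.mem)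

theorem Frame.k_notMem_center : k ∉ center G := M.ncB k F.mem F.sq F.ne

theorem Frame.alpha_notMem_center {α : G} (hα : α ∈ A₁) (h1 : α ≠ 1) : α ∉ center G :=
  M.ncA α (F.four.sub α hα) (F.four.sq hα) h1

theorem Frame.notMem_center {v : G} (hv : v ∈ A₁ ⊔ zpowers k) (h1 : v ≠ 1) : v ∉ center G := by
  rcases F.mem_cases hv with h | ⟨α, hα, rfl⟩
  · exact F.alpha_notMem_center M h h1
  · by_cases hα1 : α = 1
    · rw [hα1, one_mul]; exact F.k_notMem_center M
    · exact M.ncAB α (F.four.sub α hα) k F.mem (F.four.sq hα) F.sq (F.comm α hα) hα1 F.ne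

theorem Frame.mem_fix {d α : G} (hdk : d ∈ omega k) (hdA : ∀ β ∈ A₁, Commute β d) (hα : α ∈ A₁)
    (hdα : d ∈ omega α) : d ∈ fix A₁ k := by
  refine mem_inf.mpr ⟨mem_inf.mpr ⟨hdk, mem_centralizer_of hdA⟩, ?_⟩
  rw [mem_iInf]
  rintro ⟨β, hβ, hβ1⟩
  exact M.meet (F.alpha_notMem_center M hβ hβ1) (F.four.sub α hα) (F.four.sq hα) F.mem F.sq
    (F.four.commute hα hβ) (F.comm β hβ).symm (fun g h _ => h) hdα hdk (hdA β hβ).symm

theorem Frame.base_le : base A₁ k ≤ omega k := by
  refine sup_le (CfsgLib.Solvable.commutator_le_of_normalizes fun α hα =>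
    centralizer_le_normalizer_omega k (mem_cent.mpr (F.comm α hα))) ?_
  exact inf_le_left.trans inf_le_left

theorem Frame.normalize_omega {v : G} (hv : v ∈ A₁ ⊔ zpowers k) :
    A₁ ⊔ zpowers k ≤ normalizer (omega v : Set G) := fun w hw =>
  centralizer_le_normalizer_omega v (mem_cent.mpr (F.commute' hw hv))

theorem Frame.normalize_base : A₁ ⊔ zpowers k ≤ normalizer (base A₁ k : Set G) := by
  have hk : k ∈ A₁ ⊔ zpowers k := mem_sup_right (mem_zpowers k)
  refine CfsgLib.Signalizer.le_normalizer_sup ?_ ?_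
  · refine le_trans (le_inf (F.normalize_omega M hk) ?_)
      (CfsgLib.Signalizer.normalizer_inf_le_normalizer_commutator _ _)
    intro w hw
    exact centralizer_le_normalizer _ (mem_centralizer_of fun α hα =>
      F.commute' (mem_sup_left hα) hw)
  · refine CfsgLib.Signalizer.le_normalizer_inf (CfsgLib.Signalizer.le_normalizer_inf
      (F.normalize_omega M hk) ?_) ?_
    · intro w hw
      refine le_normalizer (mem_centralizer_of fun α hα => F.commute' (mem_sup_left hα) hw)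
    · rw [le_normalizer_iff]
      intro w hw x hx
      rw [mem_iInf] at hx ⊢
      rintro ⟨α, hα, hα1⟩
      exact conj_mem_omega (F.commute' hw (mem_sup_left hα)) (hx ⟨α, hα, hα1⟩)

theorem Frame.normalize_val {v : G} (hv : v ∈ A₁ ⊔ zpowers k) :
    A₁ ⊔ zpowers k ≤ normalizer (val A₁ k v : Set G) := by
  refine CfsgLib.Signalizer.le_normalizer_sup ?_
    (CfsgLib.Signalizer.le_normalizer_inf (F.normalize_omega M hv) (F.normalize_base M))
  refine le_trans (le_inf (F.normalize_omega M hv) ?_)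
    (CfsgLib.Signalizer.normalizer_inf_le_normalizer_commutator _ _)
  exact fun w hw => centralizer_le_normalizer _ (mem_centralizer_of fun t ht =>
    (commute_zpowers (F.commute' hw (mem_sup_right (mem_zpowers k))) ht).symm)

theorem Frame.val_le {v : G} (hv : v ∈ A₁ ⊔ zpowers k) : val A₁ k v ≤ omega v :=
  sup_le (CfsgLib.Solvable.commutator_le_of_normalizes
    (le_sup_right.trans (F.normalize_omega M hv))) inf_le_left

/-- `base ∩ C(w) ≤ omega w`. -/
theorem Frame.base_inf_le {w : G} (hw : w ∈ A₁ ⊔ zpowers k) (hw1 : w ≠ 1) :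
    base A₁ k ⊓ centralizer ({w} : Set G) ≤ omega w := by
  have hwA := (F.commute hw).1
  have hwk := (F.commute hw).2
  have hwc := F.notMem_center M hw hw1
  set Y := base A₁ k ⊓ centralizer ({w} : Set G) with hY
  have hYk : Y ≤ omega k := inf_le_left.trans (F.base_le M)
  have hAY : A₁ ≤ normalizer (Y : Set G) := CfsgLib.Signalizer.le_normalizer_inf
    (le_sup_left.trans (F.normalize_base M)) fun α hα => le_normalizer (mem_cent.mpr (hwA α hα))
  refine (decomposition F.four.isPGroup (odd_of_le (omega_odd k) hYk) hAY).trans (sup_le ?_ ?_)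
  · rw [commutator_le]
    intro c hc t ht
    have hx : ⁅c, t⁆ ∈ Y := CfsgLib.Solvable.commutator_le_of_normalizes hAY
      (commutator_mem_commutator hc ht)
    exact M.absorb hwc F.mem F.sq (F.four.sub t ht) (F.four.sq ht) (hwA t ht) hwk
      (fun g h _ => h) (hYk hx) (mem_cent.mp hx.2) (commutator_inverted (F.four.sq ht))
  · rintro d ⟨⟨hdb, hdw⟩, hdA⟩
    have hdA' : ∀ α ∈ A₁, Commute α d := fun α hα => mem_centralizer_iff.mp hdA α hα
    have hfixn : fix A₁ k ≤ normalizer ((⁅omega k, A₁⁆ : Subgroup G) : Set G) :=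
      (inf_le_left.trans inf_le_left).trans (CfsgLib.Solvable.le_normalizer_commutator_left _ _)
    obtain ⟨y, hy, z, hz, rfl⟩ := (CfsgLib.Solvable.mem_sup_of_le_normalizer hfixn).mp hdb
    obtain ⟨α, hα, hα1⟩ := F.four.exists_ne_one
    have hyA : ∀ β ∈ A₁, Commute β y := fun β hβ => by
      have hzc : Commute β z := mem_centralizer_iff.mp hz.1.2 β hβ
      simpa using (hdA' β hβ).mul_right hzc.inv_right
    have hyα : y ∈ omega α := M.symm.fixed_commutator_le F.four hα hα1 F.mem F.sq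
      (fun β hβ => (F.comm β hβ).symm) (Or.inl rfl) ⟨hy, mem_cent.mpr (hyA α hα).symm⟩
    have hyk : y ∈ omega k := F.base_le M (mem_sup_left hy)
    have hd : y * z ∈ fix A₁ k := mul_mem (F.mem_fix M hyk hyA hα hyα) hz
    exact M.meet hwc (F.four.sub α hα) (F.four.sq hα) F.mem F.sq (hwA α hα) hwk (fun g h _ => h)
      ((mem_iInf.mp hd.2) ⟨α, hα, hα1⟩) hd.1.1 (mem_cent.mp hdw)

theorem Frame.meet_le_base {α : G} (hα : α ∈ A₁) :
    omega α ⊓ omega k ≤ base A₁ k := by
  set D := omega α ⊓ omega k with hD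
  have hAD : A₁ ≤ normalizer (D : Set G) := CfsgLib.Signalizer.le_normalizer_inf
    (le_sup_left.trans (F.normalize_omega M (mem_sup_left hα)))
    (le_sup_left.trans (F.normalize_omega M (mem_sup_right (mem_zpowers k))))
  refine (decomposition F.four.isPGroup (odd_of_le (omega_odd k) inf_le_right) hAD).trans
    (sup_le (le_sup_of_le_left (commutator_mono inf_le_right le_rfl)) ?_)
  rintro d ⟨⟨hdα, hdk⟩, hdA⟩
  exact mem_sup_right (F.mem_fix M hdk (fun β hβ => mem_centralizer_iff.mp hdA β hβ) hα hdα)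

/-- `val v ∩ C(k) ≤ base`. -/
theorem Frame.val_inf_le {v : G} (hv : v ∈ A₁ ⊔ zpowers k) (hv1 : v ≠ 1) (hvk : v ≠ k) :
    val A₁ k v ⊓ centralizer ({k} : Set G) ≤ base A₁ k := by
  obtain ⟨α, hα, hα1, hcase⟩ : ∃ α ∈ A₁, α ≠ 1 ∧ (v = α ∨ v = α * k) := by
    rcases F.mem_cases hv with h | ⟨α, hα, rfl⟩
    · exact ⟨v, h, hv1, Or.inl rfl⟩
    · exact ⟨α, hα, fun h => hvk (by rw [h, one_mul]), Or.inr rfl⟩
  have hαA := F.four.sub α hα
  obtain ⟨B, hB, hkB, hBα⟩ := M.symm.exists_four F.mem F.sq F.ne hαA (F.four.sq hα) (F.comm α hα).symm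
  have hVk : zpowers k ≤ normalizer (omega v : Set G) :=
    le_sup_right.trans (F.normalize_omega M hv)
  set P := ⁅omega v, zpowers k⁆ with hP
  have hPv : P ≤ omega v := CfsgLib.Solvable.commutator_le_of_normalizes hVk
  set T := P ⊓ centralizer ({k} : Set G) with hT
  have hTk : T ≤ omega k := (inf_le_inf_right _ (commutator_mono le_rfl (zpowers_le.mpr hkB))).trans
    (M.fixed_commutator_le hB hkB F.ne hαA (F.four.sq hα) (fun β hβ => (hBα β hβ).symm) hcase)
  have hAT : A₁ ≤ normalizer (T : Set G) := by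
    refine CfsgLib.Signalizer.le_normalizer_inf ?_ fun β hβ => le_normalizer (mem_cent.mpr (F.comm β hβ))
    refine le_trans (le_inf (le_sup_left.trans (F.normalize_omega M hv)) ?_)
      (CfsgLib.Signalizer.normalizer_inf_le_normalizer_commutator _ _)
    exact fun β hβ => centralizer_le_normalizer _ (mem_centralizer_of fun t ht =>
      (commute_zpowers (F.comm β hβ) ht).symm)
  have hTb : T ≤ base A₁ k := by
    refine (decomposition F.four.isPGroup (odd_of_le (omega_odd k) hTk) hAT).trans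
      (sup_le (le_sup_of_le_left (commutator_mono hTk le_rfl)) ?_)
    rintro d ⟨hdT, hdA⟩
    have hdA' : ∀ β ∈ A₁, Commute β d := fun β hβ => mem_centralizer_iff.mp hdA β hβ
    refine mem_sup_right (F.mem_fix M (hTk hdT) hdA' hα ?_)
    rcases hcase with rfl | rfl
    · exact hPv hdT.1
    · have hle : ⁅omega (α * k), zpowers k⁆ ≤ ⁅omega (α * k), A₁⁆ := by
        refine commutator_zpowers_le_of F.sq fun c hc => ?_
        have hck : Commute c (α * k) := commute_of_mem_omega hc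
        have e : ⁅c, k⁆ = ⁅c, α⁆ := by
          have hk' : k = α * (α * k) := by rw [← mul_assoc, F.four.sq hα, one_mul]
          simp only [commutatorElement_def]
          conv_lhs => rw [hk']
          rw [mul_inv_rev]
          calc c * (α * (α * k)) * c⁻¹ * ((α * k)⁻¹ * α⁻¹)
              = c * α * ((α * k) * c⁻¹) * (α * k)⁻¹ * α⁻¹ := by simp only [mul_assoc]
            _ = c * α * c⁻¹ * α⁻¹ := by
                rw [← hck.inv_left.eq, ← mul_assoc (c * α) c⁻¹ (α * k), mul_inv_cancel_right]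
        rw [e]
        exact commutator_mem_commutator hc hα
      exact M.symm.fixed_commutator_le F.four hα hα1 F.mem F.sq (fun β hβ => (F.comm β hβ).symm)
        (Or.inr (F.comm α hα).eq) ⟨hle hdT.1, mem_cent.mpr (hdA' α hα).symm⟩
  rintro x ⟨hx, hxk⟩
  obtain ⟨y, hy, u, hu, rfl⟩ := (CfsgLib.Solvable.mem_sup_of_le_normalizer
    (inf_le_left.trans (CfsgLib.Solvable.le_normalizer_commutator_left _ _))).mp hx
  refine mul_mem (hTb ⟨hy, mem_cent.mpr ?_⟩) hu.2
  have huk : Commute u k := commute_of_mem_omega (F.base_le M hu.2)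
  simpa using (mem_cent.mp hxk).mul_left huk.inv_left

/-- Balance. -/
theorem Frame.balance {v w : G} (hv : v ∈ A₁ ⊔ zpowers k) (hv1 : v ≠ 1) (hw : w ∈ A₁ ⊔ zpowers k)
    (hw1 : w ≠ 1) : val A₁ k v ⊓ centralizer ({w} : Set G) ≤ val A₁ k w := by
  have hwA := (F.commute hw).1
  have hwk := (F.commute hw).2
  have hC2 : base A₁ k ⊓ centralizer ({w} : Set G) ≤ val A₁ k w :=
    le_sup_of_le_right (le_inf (F.base_inf_le M hw hw1) inf_le_left)
  by_cases hvk : v = k
  · refine le_trans (inf_le_inf_right _ ?_) hC2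
    refine sup_le ?_ inf_le_right
    rw [hvk, CfsgLib.Signalizer.commutator_eq_bot_of_le_centralizer_singleton (omega_le k)]
    exact bot_le
  set Y := val A₁ k v ⊓ centralizer ({w} : Set G) with hY
  have hYv : Y ≤ omega v := inf_le_left.trans (F.val_le M hv)
  have hkY : zpowers k ≤ normalizer (Y : Set G) := CfsgLib.Signalizer.le_normalizer_inf
    (le_sup_right.trans (F.normalize_val M hv)) (zpowers_le.mpr (le_normalizer (mem_cent.mpr hwk)))
  have hodd : Odd (Nat.card Y) := odd_of_le (omega_odd v) hYv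
  have hYw : ⁅Y, zpowers k⁆ ≤ omega w := by
    refine commutator_zpowers_le_of F.sq fun c hc => ?_
    have hx : ⁅c, k⁆ ∈ Y := CfsgLib.Solvable.commutator_le_of_normalizes hkY
      (commutator_mem_commutator hc (mem_zpowers k))
    have hxk : k * ⁅c, k⁆ * k⁻¹ = ⁅c, k⁆⁻¹ := commutator_inverted F.sq
    have hwc := F.notMem_center M hw hw1
    rcases F.mem_cases hv with h | ⟨α, hα, rfl⟩
    · exact M.symm.absorb hwc (F.four.sub v h) (F.four.sq h) F.mem F.sq hwk (hwA v h)
        (fun g hg _ => hg) (hYv hx) (mem_cent.mp hx.2) hxk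
    · set x := ⁅c, k⁆ with hxdef
      have h1 : Commute x (α * k) := commute_of_mem_omega (hYv hx)
      have hαx : α * x * α⁻¹ = x⁻¹ := by
        have h2 : α * k * x⁻¹ * (α * k)⁻¹ = x⁻¹ := by
          rw [← h1.inv_left.eq, mul_inv_cancel_right]
        have h3 : k * x⁻¹ * k⁻¹ = x := by rw [← conj_inv, hxk, inv_inv]
        calc α * x * α⁻¹ = α * k * x⁻¹ * (α * k)⁻¹ := by
              conv_lhs => rw [← h3]
              simp only [mul_inv_rev, mul_assoc]
          _ = x⁻¹ := h2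
      exact M.quad hwc (F.four.sub α hα) F.mem (F.four.sq hα) F.sq (F.comm α hα) (hwA α hα) hwk
        (odd_orderOf_of_mem hodd hx) (mem_cent.mp hx.2) hαx hxk
  refine (decomposition (isPGroup_zpowers_sq F.sq) hodd hkY).trans (sup_le ?_ ?_)
  · rw [← commutator_idem (isPGroup_zpowers_sq F.sq) hodd hkY]
    exact le_sup_of_le_left (commutator_mono hYw le_rfl)
  · rintro x ⟨⟨hxv, hxw⟩, hxk⟩
    rw [CfsgLib.Signalizer.centralizer_zpowers] at hxk
    exact hC2 ⟨F.val_inf_le M hv hv1 hvk ⟨hxv, hxk⟩, hxw⟩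

/-- The hull is odd and contains `[omega k, A₁]`. -/
theorem Frame.hull_spec : Odd (Nat.card (hull A₁ k)) ∧ ⁅omega k, A₁⁆ ≤ hull A₁ k := by
  haveI : Fact (Nat.Prime 2) := ⟨Nat.prime_two⟩
  set A := A₁ ⊔ zpowers k with hAdef
  have hn : zpowers k ≤ normalizer (A₁ : Set G) := zpowers_le.mpr
    (centralizer_le_normalizer _ (mem_centralizer_of F.comm))
  have hA : Cfsg.IsElementaryAbelian 2 A := by
    refine ⟨⟨⟨fun x y => Subtype.ext (F.commute' x.2 y.2).eq⟩⟩, fun a ha => ?_⟩
    rw [pow_two]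
    rcases F.mem_cases ha with h | ⟨α, hα, rfl⟩
    · exact F.four.sq h
    · exact sq_of_commute (F.four.sq hα) F.sq (F.comm α hα)
  have hA3 : 2 ^ 3 ≤ Nat.card A := by
    rw [CfsgLib.Solvable.card_sup_of_disjoint hn ?_, F.four.card, Nat.card_zpowers,
      CfsgLib.Invol.orderOf_eq_two F.ne F.sq]
    · norm_num
    rw [disjoint_def]
    intro x hxA hxk
    rcases mem_zpowers_sq F.sq hxk with h | h
    · exact h
    · exact absurd (h ▸ hxA) (F.notMem M)
  have hθ : Cfsg.IsSolvableSignalizerFunctor 2 A (val A₁ k) :=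
    ⟨⟨fun a ha _ => (F.val_le M ha).trans (omega_le a),
      fun a ha _ => (odd_of_le (omega_odd a) (F.val_le M ha)).not_two_dvd_nat,
      fun a ha _ b hb x hx => (mem_normalizer_iff.mp (F.normalize_val M ha hb) x).mp hx,
      fun a ha ha1 b hb hb1 => F.balance M ha ha1 hb hb1⟩,
      fun a ha _ => CfsgLib.FT.solvable_of_odd (odd_of_le (omega_odd a) (F.val_le M ha))⟩
  obtain ⟨h1, h2⟩ := CfsgLib.Signalizer.iSup_functor_spec hA hA3 hθ
  set W := ⨆ a : {a : G // a ∈ A ∧ a ≠ 1}, val A₁ k (a : G) with hW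
  have hWodd : Odd (Nat.card W) :=
    Nat.odd_iff.mpr (Nat.two_dvd_ne_zero.mp (CfsgLib.Signalizer.family_not_dvd h1))
  have hsub : hull A₁ k ≤ W := by
    refine iSup_le fun α => le_trans ?_ (le_iSup (fun a : {a : G // a ∈ A ∧ a ≠ 1} => val A₁ k (a : G))
      ⟨α.1, mem_sup_left α.2.1, α.2.2⟩)
    exact sup_le le_sup_left (le_sup_of_le_right (le_inf inf_le_left (F.meet_le_base M α.2.1)))
  have hWle : W ≤ hull A₁ k := by
    refine F.four.le_of_centralizers hWodd
      (le_sup_left.trans (CfsgLib.Signalizer.family_le_normalizer h1)) fun α hα hα1 => ?_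
    rw [h2 α (mem_sup_left hα) hα1]
    refine le_trans ?_ (le_iSup (fun a : {a : G // a ∈ A₁ ∧ a ≠ 1} =>
      ⁅omega (a : G), zpowers k⁆ ⊔ (omega (a : G) ⊓ omega k)) ⟨α, hα, hα1⟩)
    exact sup_le_sup le_rfl (inf_le_inf_left _ (F.base_le M))
  refine ⟨odd_of_le hWodd hsub, le_trans ?_ hWle⟩
  refine le_trans ?_ (le_iSup (fun a : {a : G // a ∈ A ∧ a ≠ 1} => val A₁ k (a : G))
    ⟨k, mem_sup_right (mem_zpowers k), F.ne⟩)
  exact le_sup_of_le_right (le_inf (CfsgLib.Solvable.commutator_le_of_normalizes fun α hα =>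
    centralizer_le_normalizer_omega k (mem_cent.mpr (F.comm α hα))) le_sup_left)

omit M F

theorem conj_omega_le (g v : G) :
    (omega v).map (MulAut.conj g).toMonoidHom ≤ omega (g * v * g⁻¹) := by
  set C := centralizer ({g * v * g⁻¹} : Set G)
  refine le_omega (L := C) le_rfl le_normalizer ?_ ?_ ?_
  · rintro _ ⟨x, hx, rfl⟩
    rw [mem_cent, MulEquiv.coe_toMonoidHom, MulAut.conj_apply]
    show _ = _
    rw [conj_mul, (commute_of_mem_omega hx).eq, ← conj_mul]
  · rw [le_normalizer_iff]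
    rintro h hh _ ⟨x, hx, rfl⟩
    have hh' : Commute (g⁻¹ * h * g) v := by
      show g⁻¹ * h * g * v = v * (g⁻¹ * h * g)
      have e := (mem_cent.mp hh).eq
      calc g⁻¹ * h * g * v = g⁻¹ * (h * (g * v * g⁻¹)) * g := by simp [mul_assoc]
        _ = g⁻¹ * ((g * v * g⁻¹) * h) * g := by rw [e]
        _ = v * (g⁻¹ * h * g) := by simp [mul_assoc]
    exact ⟨_, conj_mem_omega hh' hx, by simp [mul_assoc]⟩
  · rw [CfsgLib.TwoFusion.ConjUtil.card_conjMap]
    exact omega_odd v

theorem conj_hull_le (g : G) (A₁ : Subgroup G) (k : G) :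
    (hull A₁ k).map (MulAut.conj g).toMonoidHom ≤
      hull (A₁.map (MulAut.conj g).toMonoidHom) (g * k * g⁻¹) := by
  rw [hull, Subgroup.map_iSup]
  refine iSup_le fun α => le_iSup_of_le
    (⟨g * (α : G) * g⁻¹, ⟨(α : G), α.2.1, rfl⟩, fun h => α.2.2 (by
      rwa [mul_inv_eq_one, mul_eq_left] at h)⟩ : {β : G //
        β ∈ A₁.map (MulAut.conj g).toMonoidHom ∧ β ≠ 1}) ?_
  rw [Subgroup.map_sup, map_commutator, MonoidHom.map_zpowers]
  exact sup_le_sup (commutator_mono (conj_omega_le g _) le_rfl)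
    ((map_inf_le _ _ _).trans (inf_le_inf (conj_omega_le g _) (conj_omega_le g _)))

theorem conj_hull (g : G) (A₁ : Subgroup G) (k : G) :
    (hull A₁ k).map (MulAut.conj g).toMonoidHom =
      hull (A₁.map (MulAut.conj g).toMonoidHom) (g * k * g⁻¹) := by
  refine le_antisymm (conj_hull_le g A₁ k) fun y hy => ?_
  have h := conj_hull_le g⁻¹ _ _ (mem_map_of_mem _ hy)
  rw [CfsgLib.TwoFusion.ConjUtil.conjMap_conjMap, inv_mul_cancel,
    CfsgLib.TwoFusion.ConjUtil.conjMap_one,
    show g⁻¹ * (g * k * g⁻¹) * g⁻¹⁻¹ = k by simp [mul_assoc]] at h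
  exact ⟨_, h, by simp [mul_assoc]⟩

theorem mem_normalizer_hull {h : G} (hA : ∀ α ∈ A₁, Commute α h) (hk : Commute k h) :
    h ∈ normalizer (hull A₁ k : Set G) := by
  rw [CfsgLib.TwoFusion.ConjUtil.mem_normalizer_iff_conjMap, conj_hull,
    show h * k * h⁻¹ = k by rw [← hk.eq, mul_inv_cancel_right]]
  congr 1
  rw [← CfsgLib.TwoFusion.ConjUtil.mem_normalizer_iff_conjMap]
  exact centralizer_le_normalizer _ (mem_centralizer_of hA)

include M F

/-- The hull does not change along commuting involutions of `ℬ`. -/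
theorem Frame.hull_le {k' : G} (F' : Frame 𝒜 ℬ A₁ k') (hkk : Commute k k') :
    hull A₁ k ≤ hull A₁ k' := by
  refine iSup_le fun α => ?_
  obtain ⟨α, hα, hα1⟩ := α
  have hαA := F.four.sub α hα
  have hk'c := F'.k_notMem_center M
  refine le_trans ?_ (le_iSup (fun a : {a : G // a ∈ A₁ ∧ a ≠ 1} =>
    ⁅omega (a : G), zpowers k'⁆ ⊔ (omega (a : G) ⊓ omega k')) ⟨α, hα, hα1⟩)
  show ⁅omega α, zpowers k⁆ ⊔ (omega α ⊓ omega k) ≤ ⁅omega α, zpowers k'⁆ ⊔ (omega α ⊓ omega k')
  set N := ⁅omega α, zpowers k'⁆ with hN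
  have hk'α : zpowers k' ≤ normalizer (omega α : Set G) := zpowers_le.mpr
    (centralizer_le_normalizer_omega α (mem_cent.mpr (F'.comm α hα).symm))
  refine sup_le (commutator_zpowers_le_of F.sq fun c hc => ?_) ?_
  · obtain ⟨n, hn, d, hd, rfl⟩ := (CfsgLib.Solvable.mem_sup_of_le_normalizer
      (inf_le_left.trans (CfsgLib.Solvable.le_normalizer_commutator_left _ _))).mp
        (decomposition (isPGroup_zpowers_sq F'.sq) (omega_odd α) hk'α hc)
    have hdk' : Commute d k' := (mem_centralizer_iff.mp hd.2 k' (mem_zpowers k')).symm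
    have hnk : k * n⁻¹ * k⁻¹ ∈ N := by
      refine (mem_normalizer_iff.mp ?_ _).mp (inv_mem hn)
      refine (CfsgLib.Signalizer.normalizer_inf_le_normalizer_commutator _ _)
        ⟨centralizer_le_normalizer_omega α (mem_cent.mpr (F.comm α hα).symm),
          centralizer_le_normalizer _ (mem_centralizer_of fun t ht => (commute_zpowers hkk ht).symm)⟩
    have hdx : ⁅d, k⁆ ∈ omega k' := by
      have hx : ⁅d, k⁆ ∈ omega α := by
        have h1 := conj_mem_omega (F.comm α hα).symm (inv_mem hd.1)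
        simpa [commutatorElement_def, mul_assoc] using mul_mem hd.1 h1
      exact M.symm.absorb hk'c hαA (F.four.sq hα) F.mem F.sq hkk (F'.comm α hα)
        (fun g h _ => h) hx (commutatorElement_commute hdk' hkk) (commutator_inverted F.sq)
    have hdα : ⁅d, k⁆ ∈ omega α := by
      have h1 := conj_mem_omega (F.comm α hα).symm (inv_mem hd.1)
      simpa [commutatorElement_def, mul_assoc] using mul_mem hd.1 h1
    have e : ⁅n * d, k⁆ = n * ⁅d, k⁆ * (k * n⁻¹ * k⁻¹) := by
      simp only [commutatorElement_def]; group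
    rw [e]
    exact mul_mem (mul_mem (mem_sup_left hn) (mem_sup_right ⟨hdα, hdx⟩)) (mem_sup_left hnk)
  · have hk'D : zpowers k' ≤ normalizer ((omega α ⊓ omega k : Subgroup G) : Set G) :=
      CfsgLib.Signalizer.le_normalizer_inf hk'α
        (zpowers_le.mpr (centralizer_le_normalizer_omega k (mem_cent.mpr hkk.symm)))
    refine (decomposition (isPGroup_zpowers_sq F'.sq) (odd_of_le (omega_odd α) inf_le_left) hk'D).trans
      (sup_le (le_sup_of_le_left (commutator_mono inf_le_left le_rfl)) ?_)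
    rintro d ⟨⟨hdα, hdk⟩, hdk'⟩
    refine mem_sup_right ⟨hdα, ?_⟩
    exact M.meet hk'c hαA (F.four.sq hα) F.mem F.sq (F'.comm α hα) hkk (fun g h _ => h) hdα hdk
      (mem_centralizer_iff.mp hdk' k' (mem_zpowers k')).symm

theorem Frame.hull_eq {k' : G} (F' : Frame 𝒜 ℬ A₁ k') (hkk : Commute k k') :
    hull A₁ k = hull A₁ k' :=
  le_antisymm (F.hull_le M F' hkk) (F'.hull_le M F hkk.symm)

/-- `omega k` normalizes the hull. -/
theorem Frame.omega_le_normalizer_hull : omega k ≤ normalizer (hull A₁ k : Set G) := by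
  have hA : A₁ ≤ normalizer (omega k : Set G) := fun α hα =>
    centralizer_le_normalizer_omega k (mem_cent.mpr (F.comm α hα))
  refine (decomposition F.four.isPGroup (omega_odd k) hA).trans
    (sup_le ((F.hull_spec M).2.trans le_normalizer) ?_)
  rintro x ⟨hxk, hxA⟩
  exact mem_normalizer_hull (fun α hα => mem_centralizer_iff.mp hxA α hα)
    (commute_of_mem_omega hxk).symm

end CfsgLib.ProdFusion
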