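import Cfsg.Agent.Lib.ProdFusion.Functor
import Cfsg.Agent.Lib.TwoFusion.CentralTwo

/-!
Product fusion forces involutions of the two sets to commute modulo the odd core.
-/

set_option autoImplicit false
set_option linter.unusedSectionVars false
set_option maxHeartbeats 1600000

open Subgroup
open scoped commutatorElement Pointwise

universe u

namespace CfsgLib.ProdFusion

variable {G : Type u} [Group G]

/-- An involution of `𝒮`. -/
def InvolIn (𝒮 : Set G) (k : G) : Prop := k ∈ 𝒮 ∧ k * k = 1 ∧ k ≠ 1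

/-- Commuting involutions of `𝒮`. -/
def Adj (𝒮 : Set G) (k l : G) : Prop := InvolIn 𝒮 k ∧ InvolIn 𝒮 l ∧ Commute k l

/-- Connectedness in the commuting graph of the involutions of `𝒮`. -/
def Conn (𝒮 : Set G) : G → G → Prop := Relation.ReflTransGen (Adj 𝒮)

theorem Conn.symm {𝒮 : Set G} {k l : G} (h : Conn 𝒮 k l) : Conn 𝒮 l k := by
  induction h with
  | refl => exact Relation.ReflTransGen.refl
  | tail _ h2 ih => exact ih.head ⟨h2.2.1, h2.1, h2.2.2.symm⟩

theorem Conn.trans {𝒮 : Set G} {k l m : G} (h : Conn 𝒮 k l) (h' : Conn 𝒮 l m) : Conn 𝒮 k m :=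
  Relation.ReflTransGen.trans h h'

theorem InvolIn.conj {𝒮 : Set G} (hS : ∀ g : G, ∀ x ∈ 𝒮, g * x * g⁻¹ ∈ 𝒮) {k : G}
    (h : InvolIn 𝒮 k) (g : G) : InvolIn 𝒮 (g * k * g⁻¹) :=
  ⟨hS g k h.1, sq_conj g h.2.1, fun h0 => h.2.2 (by rwa [mul_inv_eq_one, mul_eq_left] at h0)⟩

theorem Conn.involIn {𝒮 : Set G} {k l : G} (hk : InvolIn 𝒮 k) (h : Conn 𝒮 k l) : InvolIn 𝒮 l := by
  induction h with
  | refl => exact hk
  | tail _ h2 _ => exact h2.2.1

theorem Conn.conj {𝒮 : Set G} (hS : ∀ g : G, ∀ x ∈ 𝒮, g * x * g⁻¹ ∈ 𝒮) (g : G) {k l : G}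
    (h : Conn 𝒮 k l) : Conn 𝒮 (g * k * g⁻¹) (g * l * g⁻¹) := by
  induction h with
  | refl => exact Relation.ReflTransGen.refl
  | tail _ h2 ih =>
    refine ih.tail ⟨h2.1.conj hS g, h2.2.1.conj hS g, ?_⟩
    show _ = _
    rw [conj_mul, h2.2.2.eq, ← conj_mul]

/-- The elements moving `k` inside its component. -/
def connStab (𝒮 : Set G) (hS : ∀ g : G, ∀ x ∈ 𝒮, g * x * g⁻¹ ∈ 𝒮) (k : G) : Subgroup G where
  carrier := {g | Conn 𝒮 (g * k * g⁻¹) k}
  one_mem' := by
    show Conn 𝒮 (1 * k * 1⁻¹) k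
    simp only [one_mul, inv_one, mul_one]
    exact Relation.ReflTransGen.refl
  mul_mem' := by
    intro g h hg hh
    have := (Conn.conj hS g hh).trans hg
    simpa [mul_assoc] using this
  inv_mem' := by
    intro g hg
    have := (Conn.conj hS g⁻¹ hg).symm
    simpa [mul_assoc] using this

theorem normal_closure_of_conj {S : Set G} (h : ∀ g : G, ∀ x ∈ S, g * x * g⁻¹ ∈ S) :
    (closure S).Normal := by
  rw [← normalizer_eq_top_iff, eq_top_iff]
  refine le_trans (fun g _ => ?_) (normalizer_le_normalizer_closure S)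
  show ∀ s, s ∈ S ↔ g * s * g⁻¹ ∈ S
  exact fun s => ⟨h g s, fun hs => by simpa [mul_assoc] using h g⁻¹ _ hs⟩

variable [Finite G] {𝒜 ℬ : Set G} (M : Minimal 𝒜 ℬ)
include M

theorem Minimal.opr_eq_bot (N : Subgroup G) [hN : N.Normal] : CfsgLib.Signalizer.opr 2 N = ⊥ := by
  refine eq_bot_iff.mpr (M.core ▸ CfsgLib.Solvable.le_pPrimeCore ?_
    (CfsgLib.Signalizer.opr_coprime 2 N))
  rw [← normalizer_eq_top_iff, eq_top_iff, ← normalizer_eq_top_iff.mpr hN]
  exact CfsgLib.Signalizer.normalizer_le_normalizer_opr 2 N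

/-- An odd subgroup of a normal `N` normalized by `N` is trivial. -/
theorem Minimal.eq_bot_of_odd {N P : Subgroup G} [N.Normal] (hP : P ≤ N)
    (hn : N ≤ normalizer (P : Set G)) (hodd : Odd (Nat.card P)) : P = ⊥ :=
  eq_bot_iff.mpr (M.opr_eq_bot N ▸
    CfsgLib.Signalizer.le_opr_of hP hn (Nat.coprime_two_right.mpr hodd))

/-- An involution of `𝒜` and one of `ℬ` give a commuting pair. -/
theorem Minimal.step {a k : G} (ha : a ∈ 𝒜) (ha2 : a * a = 1) (ha1 : a ≠ 1) (hk : k ∈ ℬ)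
    (hk2 : k * k = 1) (hk1 : k ≠ 1) :
    ∃ k' : G, InvolIn ℬ k' ∧ Commute a k' ∧ (∃ h ∈ omega (a * k'), h * k' * h⁻¹ = k) ∧
      k * a * (k * a) ∈ omega (a * k') ∧
      k' * (k * a * (k * a)) * k'⁻¹ = (k * a * (k * a))⁻¹ := by
  haveI : Fact (Nat.Prime 2) := ⟨Nat.prime_two⟩
  set D := Subgroup.closure ({k, a} : Set G) with hD
  have hkD : k ∈ D := CfsgLib.Invol.left_mem_closure_pair k a
  have haD : a ∈ D := CfsgLib.Invol.right_mem_closure_pair k a
  obtain ⟨R, hR, -, haR, -, hall⟩ := CfsgLib.TwoFusion.FusionTools.exists_sylow_in D (zpowers a)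
    (isPGroup_zpowers_sq ha2) (zpowers_le.mpr haD)
  obtain ⟨d, hdD, hd⟩ := hall (zpowers k) (isPGroup_zpowers_sq hk2) (zpowers_le.mpr hkD)
  obtain ⟨i, hi⟩ := CfsgLib.Invol.conj_eq_of_mem_closure_pair hk2 ha2 hdD
  set u := k * a * (k * a) with hu
  set k' := d * k * d⁻¹ with hk'
  have hk'2 : k' * k' = 1 := sq_conj d hk2
  have hk'1 : k' ≠ 1 := fun h0 => hk1 (by rwa [hk', mul_inv_eq_one, mul_eq_left] at h0)
  have hk'B : k' ∈ ℬ := M.setting.conjB d k hk
  have hak : Commute a k' :=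
    M.setting.comm R hR a ha (haR (mem_zpowers a)) k' hk'B (hd k (mem_zpowers k))
  have hka : a * (k * a) * a⁻¹ = (k * a)⁻¹ := by
    rw [mul_inv_rev, inv_eq_of_sq hk2, inv_eq_of_sq ha2]
    simp only [mul_assoc, ha2, mul_one]
  have hau : a * u * a⁻¹ = u⁻¹ := inverts_sq hka
  have hku : k * u * k⁻¹ = u⁻¹ := inverts_sq (CfsgLib.Invol.conj_prod hk2 ha2)
  have hui : (k * a) ^ (2 * i) = u ^ i := by rw [zpow_mul, zpow_two, hu]
  rw [hui] at hi
  have hk'u : k' * u * k'⁻¹ = u⁻¹ := by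
    rw [hi, mul_inv_rev]
    calc k * u ^ i * u * ((u ^ i)⁻¹ * k⁻¹) = k * (u ^ i * u * (u ^ i)⁻¹) * k⁻¹ := by
          simp only [mul_assoc]
      _ = u⁻¹ := by
          rw [((Commute.refl u).zpow_left i).eq, mul_inv_cancel_right, hku]
  set z := a * k' with hz
  have hz2 : z * z = 1 := sq_of_commute ha2 hk'2 hak
  have hzr : z = (k * a)⁻¹ * u ^ i := by
    rw [hz, hi, mul_inv_rev, inv_eq_of_sq hk2, inv_eq_of_sq ha2, mul_assoc]
  have hru : Commute (k * a) u := (Commute.refl (k * a)).mul_right (Commute.refl (k * a))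
  have hzu : Commute u z := hzr ▸ hru.symm.inv_right.mul_right ((Commute.refl u).zpow_right i)
  have hui1 : u ^ (2 * i - 1) = 1 := by
    have e : z * z = (k * a)⁻¹ * (k * a)⁻¹ * (u ^ i * u ^ i) := by
      rw [hzr]
      exact (hru.inv_left.zpow_right i).symm.mul_mul_mul_comm _ _
    rw [hz2, ← mul_inv_rev, ← hu, ← zpow_add, ← zpow_neg_one, ← zpow_add] at e
    rw [show (2 * i - 1) = -1 + (i + i) by ring, ← e]
  have huodd : Odd (orderOf u) := by
    have h1 := orderOf_dvd_iff_zpow_eq_one.mpr hui1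
    by_contra hev
    rw [Nat.not_odd_iff_even, even_iff_two_dvd] at hev
    have h2 : (2 : ℤ) ∣ 2 * i - 1 := dvd_trans (by exact_mod_cast hev) h1
    omega
  have hzc : z ∉ center G := M.ncAB a ha k' hk'B ha2 hk'2 hak ha1 hk'1
  have hmem : u ∈ omega z := M.quad hzc ha hk'B ha2 hk'2 hak
    ((Commute.refl a).mul_right hak) (hak.symm.mul_right (Commute.refl k')) huodd hzu hau hk'u
  refine ⟨k', ⟨hk'B, hk'2, hk'1⟩, hak, ?_, hmem, hk'u⟩
  have hw : u ^ i ∈ omega z := zpow_mem hmem i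
  obtain ⟨g, hg, hgk⟩ := exists_conj_of_inverted (odd_orderOf_of_mem (omega_odd z) hw)
    (show k' * u ^ i * k'⁻¹ = (u ^ i)⁻¹ by rw [← conj_zpow, hk'u, inv_zpow])
  refine ⟨g, zpowers_le.mpr hw hg, hgk.trans ?_⟩
  rw [hi, CfsgLib.Invol.mul_zpow_of_inverts hku, ← mul_assoc, ← zpow_add, add_neg_cancel, zpow_zero,
    one_mul]

/-- The component of `k'` contains its `omega (a k')`-conjugates. -/
theorem Minimal.omega_le_connStab {a k' : G} (ha : a ∈ 𝒜) (ha2 : a * a = 1) (ha1 : a ≠ 1)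
    (hk' : InvolIn ℬ k') (hak : Commute a k') :
    omega (a * k') ≤ connStab ℬ M.setting.conjB k' := by
  obtain ⟨B, hB, hkB, hBa⟩ := M.symm.exists_four hk'.1 hk'.2.1 hk'.2.2 ha ha2 hak.symm
  refine hB.le_of_centralizers (omega_odd _) (fun β hβ => centralizer_le_normalizer_omega _
    (mem_cent.mpr ((hBa β hβ).mul_right (hB.commute hβ hkB)))) fun β hβ hβ1 => ?_
  rintro c ⟨-, hc⟩
  have hcβ : Commute c β := mem_cent.mp hc
  have hβi : InvolIn ℬ β := ⟨hB.sub β hβ, hB.sq hβ, hβ1⟩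
  have h1 : Commute (c * k' * c⁻¹) β :=
    (hcβ.mul_left (hB.commute hkB hβ)).mul_left hcβ.inv_left
  exact Relation.ReflTransGen.head ⟨hk'.conj M.setting.conjB c, hβi, h1⟩
    (Relation.ReflTransGen.single ⟨hβi, hk', hB.commute hβ hkB⟩)

/-- Every involution of `𝒜` fixes every component. -/
theorem Minimal.conn_conj {a k : G} (ha : a ∈ 𝒜) (ha2 : a * a = 1) (ha1 : a ≠ 1)
    (hk : InvolIn ℬ k) : Conn ℬ (a * k * a⁻¹) k := by
  obtain ⟨k', hk', hak, ⟨h, hh, hhk⟩, -, -⟩ := M.step ha ha2 ha1 hk.1 hk.2.1 hk.2.2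
  have hs := M.omega_le_connStab ha ha2 ha1 hk' hak
  have h1 : Conn ℬ k k' := hhk ▸ hs hh
  have h2 := conj_mem_omega (g := a) ((Commute.refl a).mul_right hak) hh
  have h3 : Conn ℬ (a * h * a⁻¹ * k' * (a * h * a⁻¹)⁻¹) k' := hs h2
  have e : a * h * a⁻¹ * k' * (a * h * a⁻¹)⁻¹ = a * k * a⁻¹ := by
    have hk'' : a⁻¹ * k' * a = k' := by rw [mul_assoc, ← hak.eq, inv_mul_cancel_left]
    calc a * h * a⁻¹ * k' * (a * h * a⁻¹)⁻¹ = a * (h * (a⁻¹ * k' * a) * h⁻¹) * a⁻¹ := by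
          simp [mul_assoc]
      _ = a * k * a⁻¹ := by rw [hk'', hhk]
  exact (e ▸ h3).trans h1.symm

/-- The hull of one frame serves the whole component. -/
theorem Minimal.hull_component {A₁ : Subgroup G} {k l : G} (F : Frame 𝒜 ℬ A₁ k)
    (h : Conn ℬ k l) : l ∈ normalizer (hull A₁ k : Set G) ∧
      ∃ A₂ : Subgroup G, Frame 𝒜 ℬ A₂ l ∧ hull A₂ l = hull A₁ k := by
  induction h with
  | refl => exact ⟨mem_normalizer_hull F.comm (Commute.refl k), A₁, F, rfl⟩
  | @tail m l _ hml ih =>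
    obtain ⟨-, A₂, F₂, hW⟩ := ih
    obtain ⟨hm, hl, hc⟩ := hml
    have hmc := F₂.k_notMem_center M
    set O := omega m with hO
    have hAO : A₂ ≤ normalizer (O : Set G) := fun α hα =>
      centralizer_le_normalizer_omega m (mem_cent.mpr (F₂.comm α hα))
    have hlO : ∀ α ∈ A₂, ∃ g ∈ O, g * l * g⁻¹ = α * l * α⁻¹ := by
      intro α hα
      have h1 : α * l * (α * l) ∈ O := M.sq_mem_omega hmc (F₂.four.sub α hα) hl.1 (F₂.four.sq hα)
        hl.2.1 (F₂.comm α hα) hc.symm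
      have hinv : l * (α * l * (α * l)) * l⁻¹ = (α * l * (α * l))⁻¹ := by
        refine inverts_sq ?_
        rw [mul_inv_rev, inv_eq_of_sq hl.2.1, inv_eq_of_sq (F₂.four.sq hα)]
        simp only [mul_assoc, hl.2.1, mul_one]
      obtain ⟨g, hg, hgl⟩ := exists_conj_of_inverted (odd_orderOf_of_mem (omega_odd m) h1) hinv
      refine ⟨g, zpowers_le.mpr h1 hg, hgl.trans ?_⟩
      rw [inv_eq_of_sq (F₂.four.sq hα)]
      simp only [mul_assoc, hl.2.1, mul_one]
    set S := {P : Subgroup G | ∃ h ∈ O, P = zpowers (h * l * h⁻¹)} with hSdef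
    have hSA : ∀ α ∈ A₂, ∀ P ∈ S, MulAut.conj α • P ∈ S := by
      rintro α hα _ ⟨h, hh, rfl⟩
      obtain ⟨g, hg, hgl⟩ := hlO α hα
      refine ⟨α * h * α⁻¹ * g, mul_mem ((mem_normalizer_iff.mp (hAO hα) h).mp hh) hg, ?_⟩
      rw [CfsgLib.Solvable.conj_smul_eq_map, MonoidHom.map_zpowers]
      congr 1
      calc α * (h * l * h⁻¹) * α⁻¹ = α * h * α⁻¹ * (α * l * α⁻¹) * (α * h * α⁻¹)⁻¹ := by group
        _ = α * h * α⁻¹ * g * l * (α * h * α⁻¹ * g)⁻¹ := by rw [← hgl]; group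
    have hSO : ∀ g ∈ O, ∀ P ∈ S, MulAut.conj g • P ∈ S := by
      rintro g hg _ ⟨h, hh, rfl⟩
      refine ⟨g * h, mul_mem hg hh, ?_⟩
      rw [CfsgLib.Solvable.conj_smul_eq_map, MonoidHom.map_zpowers]
      congr 1
      simp [mul_assoc]
    have hSt : ∀ P ∈ S, ∀ Q ∈ S, ∃ g ∈ O, MulAut.conj g • P = Q := by
      rintro _ ⟨h, hh, rfl⟩ _ ⟨h', hh', rfl⟩
      refine ⟨h' * h⁻¹, mul_mem hh' (inv_mem hh), ?_⟩
      rw [CfsgLib.Solvable.conj_smul_eq_map, MonoidHom.map_zpowers]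
      congr 1
      simp [mul_assoc]
    obtain ⟨P, ⟨ω, hω, rfl⟩, hP⟩ := CfsgLib.Solvable.exists_invariant_subgroup_of_transitive hAO
      (coprime_of_two_group F₂.four.isPGroup (omega_odd m))
      (Or.inr (CfsgLib.FT.solvable_of_odd (omega_odd m)))
      (⟨zpowers l, 1, one_mem O, by simp⟩ : S.Nonempty) hSA hSO hSt
    set l' := ω * l * ω⁻¹ with hl'
    have hl'i : InvolIn ℬ l' := hl.conj M.setting.conjB ω
    have hl'A : ∀ α ∈ A₂, Commute α l' := by
      intro α hα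
      have h1 := (mem_normalizer_iff.mp (hP hα) l').mp (mem_zpowers l')
      rcases mem_zpowers_sq hl'i.2.1 h1 with h2 | h2
      · rw [mul_inv_eq_one, mul_eq_left] at h2
        exact absurd h2 hl'i.2.2
      · exact mul_inv_eq_iff_eq_mul.mp h2
    have F₃ : Frame 𝒜 ℬ A₂ l' := ⟨F₂.four, hl'i.1, hl'i.2.1, hl'i.2.2, hl'A⟩
    have hωm : Commute ω m := commute_of_mem_omega hω
    have hml' : Commute m l' := (hωm.symm.mul_right hc).mul_right hωm.symm.inv_right
    have hW3 : hull A₂ l' = hull A₁ k := (F₂.hull_eq M F₃ hml').symm.trans hW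
    have hωN : ω ∈ normalizer (hull A₁ k : Set G) := hW ▸ F₂.omega_le_normalizer_hull M hω
    have hl'N : l' ∈ normalizer (hull A₁ k : Set G) :=
      hW3 ▸ mem_normalizer_hull hl'A (Commute.refl l')
    have el : ω⁻¹ * l' * ω⁻¹⁻¹ = l := by rw [hl']; group
    refine ⟨?_, A₂.map (MulAut.conj ω⁻¹).toMonoidHom,
      ⟨F₂.four.map M.setting.conjA ω⁻¹, hl.1, hl.2.1, hl.2.2, ?_⟩, ?_⟩
    · rw [← el]
      exact mul_mem (mul_mem (inv_mem hωN) hl'N) (inv_mem (inv_mem hωN))
    · rintro _ ⟨α, hα, rfl⟩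
      rw [← el]
      show _ = _
      simp only [MulEquiv.coe_toMonoidHom, MulAut.conj_apply]
      rw [conj_mul, (hl'A α hα).eq, ← conj_mul]
    · conv_lhs => rw [← el]
      rw [← conj_hull, hW3]
      exact (CfsgLib.TwoFusion.ConjUtil.mem_normalizer_iff_conjMap _ _).mp (inv_mem hωN)

/-- In a minimal configuration the involutions commute. -/
theorem Minimal.commute {a b : G} (ha : a ∈ 𝒜) (hb : b ∈ ℬ) (ha2 : a * a = 1) (hb2 : b * b = 1) :
    Commute a b := by
  by_contra hab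
  have ha1 : a ≠ 1 := fun h => hab (h ▸ Commute.one_left b)
  have hb1 : b ≠ 1 := fun h => hab (h ▸ Commute.one_right a)
  have hbi : InvolIn ℬ b := ⟨hb, hb2, hb1⟩
  have hS := M.setting.conjB
  set u := b * a * (b * a) with hu
  have hu1 : u ≠ 1 := fun h => hab (commute_of_sq hb2 ha2 h).symm
  set N := Subgroup.closure {x : G | InvolIn 𝒜 x} with hN
  haveI hNn : N.Normal := normal_closure_of_conj fun g x hx => hx.conj M.setting.conjA g
  set Γ := {l : G | Conn ℬ l b} with hΓ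
  have haN : a ∈ N := subset_closure ⟨ha, ha2, ha1⟩
  set H := N ⊔ Subgroup.closure Γ with hH
  by_cases hHtop : H = ⊤
  swap
  · have hbH : b ∈ H := mem_sup_right (subset_closure Relation.ReflTransGen.refl)
    have h1 := (M.ih H hHtop).symm ⟨b, hbH⟩ hb ⟨a, mem_sup_left haN⟩ ha (Subtype.ext hb2)
      (Subtype.ext ha2)
    have huO : u ∈ CfsgLib.Signalizer.opr 2 H := ⟨_, h1, rfl⟩
    set O := CfsgLib.Signalizer.opr 2 H with hO
    have hHO : H ≤ normalizer (O : Set G) := CfsgLib.Signalizer.le_normalizer_opr 2 H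
    have hOodd : Odd (Nat.card O) :=
      Nat.coprime_two_right.mp (CfsgLib.Signalizer.opr_coprime 2 H)
    have hbot : O ⊓ N = ⊥ := M.eq_bot_of_odd inf_le_right
      (CfsgLib.Signalizer.le_normalizer_inf (le_sup_left.trans hHO) le_normalizer)
      (odd_of_le hOodd inf_le_left)
    have h2 : u * a * u⁻¹ * a⁻¹ ∈ O ⊓ N := by
      refine mem_inf.mpr ⟨?_, mul_mem (hNn.conj_mem a haN u) (inv_mem haN)⟩
      have h3 := (mem_normalizer_iff.mp (hHO (mem_sup_left haN)) _).mp (inv_mem huO)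
      simpa [mul_assoc] using mul_mem huO h3
    rw [hbot, mem_bot, mul_inv_eq_one, mul_inv_eq_iff_eq_mul] at h2
    exact hu1 (eq_one_of_inverted_commute (odd_orderOf_of_mem hOodd huO)
      (inverts_sq (by
        rw [mul_inv_rev, inv_eq_of_sq ha2, inv_eq_of_sq hb2]
        simp only [mul_assoc, ha2, mul_one])) h2.symm)
  have hfix : ∀ g : G, Conn ℬ (g * b * g⁻¹) b := by
    have hle : H ≤ connStab ℬ hS b := by
      refine sup_le ((closure_le _).mpr fun x hx => M.conn_conj hx.1 hx.2.1 hx.2.2 hbi)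
        ((closure_le _).mpr fun l hl => ?_)
      have h1 : Conn ℬ (l * b * l⁻¹) (l * l * l⁻¹) := Conn.conj hS l (Conn.symm hl)
      rw [mul_inv_cancel_right] at h1
      exact h1.trans hl
    exact fun g => hle (hHtop ▸ mem_top g)
  haveI : (Subgroup.closure Γ).Normal :=
    normal_closure_of_conj fun g l hl => (Conn.conj hS g hl).trans (hfix g)
  obtain ⟨k', hk', hak, ⟨h, hh, hhk⟩, hmem, hinv⟩ := M.step ha ha2 ha1 hb hb2 hb1
  have hbk : Conn ℬ b k' := hhk ▸ M.omega_le_connStab ha ha2 ha1 hk' hak hh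
  obtain ⟨A₁, hA₁, haA, hAk⟩ := M.exists_four ha ha2 ha1 hk'.1 hk'.2.1 hak
  have F : Frame 𝒜 ℬ A₁ k' := ⟨hA₁, hk'.1, hk'.2.1, hk'.2.2, hAk⟩
  set W := hull A₁ k' with hW
  set K := Subgroup.closure Γ with hK
  have hKW : K ≤ normalizer (W : Set G) :=
    (closure_le _).mpr fun l hl => (M.hull_component F ((hl.trans hbk).symm)).1
  have hbot : W ⊓ K = ⊥ := M.eq_bot_of_odd inf_le_right
    (CfsgLib.Signalizer.le_normalizer_inf hKW le_normalizer)
    (odd_of_le (F.hull_spec M).1 inf_le_left)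
  have hk'K : k' ∈ K := subset_closure hbk.symm
  have hcent : ∀ α ∈ A₁, α ≠ 1 → ∀ x ∈ omega α, Commute x k' := by
    intro α hα hα1 x hx
    have h1 : ⁅x, k'⁆ ∈ W ⊓ K := by
      refine mem_inf.mpr ⟨mem_iSup_of_mem (⟨α, hα, hα1⟩ : {α : G // α ∈ A₁ ∧ α ≠ 1})
        (mem_sup_left (commutator_mem_commutator hx (mem_zpowers k'))), ?_⟩
      exact mul_mem (Subgroup.Normal.conj_mem inferInstance k' hk'K x) (inv_mem hk'K)
    rw [hbot, mem_bot, commutatorElement_eq_one_iff_commute] at h1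
    exact h1
  set z := a * k' with hz
  have hA₁z : ∀ α ∈ A₁, Commute α z := fun α hα => (hA₁.commute hα haA).mul_right (hAk α hα)
  have hle : omega z ≤ centralizer ({k'} : Set G) := by
    refine hA₁.le_of_centralizers (omega_odd z)
      (fun α hα => centralizer_le_normalizer_omega z (mem_cent.mpr (hA₁z α hα))) fun α hα hα1 => ?_
    rintro c ⟨hc, hcα⟩
    have hcα' : Commute c α := mem_cent.mp hcα
    set x := ⁅c, k'⁆ with hx
    have hxz : x ∈ omega z := by
      have h1 := conj_mem_omega (g := k') (hak.symm.mul_right (Commute.refl k')) (inv_mem hc)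
      simpa [hx, commutatorElement_def, mul_assoc] using mul_mem hc h1
    have hxodd := odd_orderOf_of_mem (omega_odd z) hxz
    have hkx : k' * x * k'⁻¹ = x⁻¹ := commutator_inverted hk'.2.1
    have hax : a * x * a⁻¹ = x⁻¹ := by
      have h2 : z * x⁻¹ * z⁻¹ = x⁻¹ := by
        rw [← (commute_of_mem_omega hxz).inv_left.eq, mul_inv_cancel_right]
      have h3 : k' * x⁻¹ * k'⁻¹ = x := by rw [← conj_inv, hkx, inv_inv]
      calc a * x * a⁻¹ = z * x⁻¹ * z⁻¹ := by
            conv_lhs => rw [← h3]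
            simp only [hz, mul_inv_rev, mul_assoc]
        _ = x⁻¹ := h2
    have hxα := M.quad (F.alpha_notMem_center M hα hα1) ha hk'.1 ha2 hk'.2.1 hak
      (hA₁.commute haA hα) (hAk α hα).symm hxodd
      (commutatorElement_commute hcα' (hAk α hα).symm) hax hkx
    have hx1 : x = 1 :=
      eq_one_of_inverted_commute hxodd hkx (hcent α hα hα1 x hxα).symm
    exact mem_cent.mpr (commutatorElement_eq_one_iff_commute.mp hx1)
  exact hu1 (eq_one_of_inverted_commute (odd_orderOf_of_mem (omega_odd z) hmem) hinv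
    (mem_cent.mp (hle hmem)).symm)

omit M

/-- The product fusion theorem. -/
theorem good_aux : ∀ (n : ℕ) (G : Type u) [Group G] [Finite G] (𝒜 ℬ : Set G),
    Nat.card G < n → Setting 𝒜 ℬ → Good 𝒜 ℬ := by
  intro n
  induction n with
  | zero => exact fun G _ _ _ _ h => absurd h (Nat.not_lt_zero _)
  | succ n IH =>
    intro G _ _ 𝒜 ℬ hn hset
    haveI : Fact (Nat.Prime 2) := ⟨Nat.prime_two⟩
    haveI hOn : (Cfsg.oddCore G).Normal := CfsgLib.Solvable.pPrimeCore_normal 2 G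
    by_cases hO : Cfsg.oddCore G = ⊥
    swap
    · intro a ha b hb ha2 hb2
      set π := QuotientGroup.mk' (Cfsg.oddCore G) with hπ
      have hlt : Nat.card (G ⧸ Cfsg.oddCore G) < n := by
        have h1 := card_eq_card_quotient_mul_card_subgroup (Cfsg.oddCore G)
        have h2 : 2 ≤ Nat.card (Cfsg.oddCore G) :=
          (Finite.one_lt_card_iff_nontrivial.mpr ((nontrivial_iff_ne_bot _).mpr hO) : 1 < _)
        have h3 : 0 < Nat.card (G ⧸ Cfsg.oddCore G) := Nat.card_pos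
        have h4 := Nat.mul_le_mul_left (Nat.card (G ⧸ Cfsg.oddCore G)) h2
        omega
      have h5 := IH _ _ _ hlt (hset.quotientOdd _
        (Nat.coprime_two_right.mp (CfsgLib.Solvable.pPrimeCore_card_coprime 2 G)))
        (π a) ⟨a, ha, rfl⟩ (π b) ⟨b, hb, rfl⟩ (by rw [← map_mul, ha2, map_one])
        (by rw [← map_mul, hb2, map_one])
      rw [show Cfsg.oddCore (G ⧸ Cfsg.oddCore G) = ⊥ from
        CfsgLib.Solvable.pPrimeCore_quotient_eq_bot (Cfsg.oddCore G) rfl, mem_bot, ← map_mul,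
        ← map_mul] at h5
      exact (QuotientGroup.eq_one_iff _).mp h5
    -- a central involution in one of the sets
    have central : ∀ 𝒜 ℬ : Set G, Setting 𝒜 ℬ →
        (∃ t ∈ 𝒜, t * t = 1 ∧ t ≠ 1 ∧ t ∈ center G) → Good 𝒜 ℬ := by
      rintro 𝒜 ℬ hset ⟨t, ht, ht2, ht1, htc⟩ a ha b hb ha2 hb2
      have hord : orderOf t = 2 := CfsgLib.Invol.orderOf_eq_two ht1 ht2
      haveI hTn : (zpowers t).Normal := ⟨fun m hm g => by
        rwa [Subgroup.mem_center_iff.mp (zpowers_le.mpr htc hm) g, mul_inv_cancel_right]⟩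
      set π := QuotientGroup.mk' (zpowers t) with hπ
      have hlt : Nat.card (G ⧸ zpowers t) < n := by
        have h1 := card_eq_card_quotient_mul_card_subgroup (zpowers t)
        rw [Nat.card_zpowers, hord] at h1
        have h3 : 0 < Nat.card (G ⧸ zpowers t) := Nat.card_pos
        omega
      have h5 := IH _ _ _ hlt (hset.quotientCentral ht hord)
        (π a) ⟨a, ha, rfl⟩ (π b) ⟨b, hb, rfl⟩ (by rw [← map_mul, ha2, map_one])
        (by rw [← map_mul, hb2, map_one])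
      rw [show Cfsg.oddCore (G ⧸ zpowers t) = ⊥ from
        CfsgLib.TwoFusion.core_quotient_eq_bot hO htc hord, mem_bot, ← map_mul, ← map_mul] at h5
      have h6 : a * b * (a * b) ∈ zpowers t := (QuotientGroup.eq_one_iff _).mp h5
      have hp : IsPGroup 2 (Subgroup.closure ({a, b} : Set G)) := by
        intro d
        have h8 : (a * b) ^ 4 = 1 := by
          rw [show (4 : ℕ) = 2 + 2 from rfl, pow_add, pow_two]
          rcases mem_zpowers_sq ht2 h6 with h | h <;> rw [h] <;> simp [ht2]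
        refine ⟨2, Subtype.ext ?_⟩
        show (d : G) ^ (2 ^ 2) = 1
        obtain ⟨j, hj⟩ := (CfsgLib.Invol.mem_closure_pair_iff ha2 hb2).mp d.2
        rcases hj with hj | hj
        · rw [hj, ← zpow_natCast, ← zpow_mul, mul_comm, zpow_mul, zpow_natCast]
          norm_num [h8]
        · have h9 : (d : G) * d = 1 := by
            rw [hj]
            calc a * (a * b) ^ j * (a * (a * b) ^ j) = a * ((a * b) ^ j * a) * (a * b) ^ j := by
                  simp only [mul_assoc]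
              _ = 1 := by
                  rw [CfsgLib.Invol.zpow_mul_of_inverts (CfsgLib.Invol.conj_prod ha2 hb2),
                    ← mul_assoc, ha2, one_mul, ← zpow_add, neg_add_cancel, zpow_zero]
          rw [show (2 : ℕ) ^ 2 = 2 * 2 from rfl, pow_mul, pow_two (d : G), h9, one_pow]
      have hcom := hset.comm _ hp a ha (CfsgLib.Invol.left_mem_closure_pair a b) b hb
        (CfsgLib.Invol.right_mem_closure_pair a b)
      rw [sq_of_commute ha2 hb2 hcom]
      exact one_mem _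
    by_cases hcA : ∃ t ∈ 𝒜, t * t = 1 ∧ t ≠ 1 ∧ t ∈ center G
    · exact central 𝒜 ℬ hset hcA
    by_cases hcB : ∃ t ∈ ℬ, t * t = 1 ∧ t ≠ 1 ∧ t ∈ center G
    · exact (central ℬ 𝒜 hset.symm hcB).symm
    push Not at hcA hcB
    have hncAB : ∀ a ∈ 𝒜, ∀ b ∈ ℬ, a * a = 1 → b * b = 1 → Commute a b → a ≠ 1 → b ≠ 1 →
        a * b ∉ center G := by
      intro a ha b hb ha2 hb2 hab ha1 hb1 hc
      obtain ⟨P, hP⟩ := (IsPGroup.to_sup_of_normal_right' (isPGroup_zpowers_sq ha2)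
        (isPGroup_zpowers_sq hb2) (zpowers_le.mpr (centralizer_le_normalizer _
          (mem_centralizer_of fun t ht => (commute_zpowers hab ht).symm)))).exists_le_sylow
      have haP : a ∈ (P : Subgroup G) := hP (mem_sup_left (mem_zpowers a))
      have hbP : b ∈ (P : Subgroup G) := hP (mem_sup_right (mem_zpowers b))
      obtain ⟨N, hN, hNodd, hNc⟩ := CfsgLib.Invol.zStar_sylow P a
        (CfsgLib.Invol.orderOf_eq_two ha1 ha2) (fun g hg => by
          have e : g * a * g⁻¹ * (g * b * g⁻¹) = a * b := by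
            rw [conj_mul, Subgroup.mem_center_iff.mp hc g, mul_inv_cancel_right]
          have e2 : g * b * g⁻¹ = g * a * g⁻¹ * (a * b) := by
            rw [← e, ← mul_assoc, sq_conj g ha2, one_mul]
          have hbP' : g * b * g⁻¹ ∈ (P : Subgroup G) := e2 ▸ mul_mem hg (mul_mem haP hbP)
          have h1 : g * a * g⁻¹ * a ∈ ℬ := by
            have e3 : g * b * g⁻¹ * b = g * a * g⁻¹ * a := by
              rw [e2, mul_assoc (g * a * g⁻¹), mul_assoc a, hb2, mul_one]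
            exact e3 ▸ hset.mulB _ P.isPGroup' _ (hset.conjB g b hb) hbP' b hb hbP
          have h2 := hset.disj _ (hset.mulA _ P.isPGroup' _ (hset.conjA g a ha) hg a ha haP) h1
          rw [mul_eq_one_iff_eq_inv, inv_eq_of_sq ha2] at h2
          exact h2)
      have hbot : N = ⊥ := eq_bot_iff.mpr (hO ▸
        CfsgLib.Solvable.le_pPrimeCore hN (Nat.coprime_two_right.mpr hNodd))
      refine hcA a ha ha2 ha1 (Subgroup.mem_center_iff.mpr fun g => ?_)
      have h1 := hNc g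
      rw [hbot, mem_bot, mul_inv_eq_one, mul_inv_eq_iff_eq_mul] at h1
      exact h1.symm
    have M : Minimal 𝒜 ℬ := by
      refine ⟨hset, hO, fun H hH => ?_, hcA, hcB, hncAB⟩
      refine IH _ _ _ ?_ (hset.comap H.subtype H.subtype_injective)
      have h1 : Nat.card H ≠ Nat.card G := fun h => hH (eq_top_of_card_eq _ h)
      have h2 := Nat.le_of_dvd Nat.card_pos (card_subgroup_dvd_card H)
      omega
    intro a ha b hb ha2 hb2
    rw [sq_of_commute ha2 hb2 (M.commute ha hb ha2 hb2)]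
    exact one_mem _

theorem good {G : Type u} [Group G] [Finite G] {𝒜 ℬ : Set G} (h : Setting 𝒜 ℬ) : Good 𝒜 ℬ :=
  good_aux _ G 𝒜 ℬ (Nat.lt_succ_self _) h

/-- Core-free form. -/
theorem commute_of_core {G : Type u} [Group G] [Finite G] {𝒜 ℬ : Set G} (h : Setting 𝒜 ℬ)
    (hO : Cfsg.oddCore G = ⊥) {a b : G} (ha : a ∈ 𝒜) (hb : b ∈ ℬ) (ha2 : a * a = 1)
    (hb2 : b * b = 1) : Commute a b := by
  have h1 := good h a ha b hb ha2 hb2
  rw [hO, mem_bot] at h1
  exact commute_of_sq ha2 hb2 h1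

end CfsgLib.ProdFusion
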