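import Cfsg.Agent.Lib.ProdFusion.Setting
import Cfsg.Agent.Lib.Signalizer.Commutators
import Cfsg.Agent.Lib.TwoFusion.Isolated
import Cfsg.Agent.Lib.Invol.Dihedral

/-!
The odd cores of involution centralisers in a minimal configuration of product fusion, and the
three absorption lemmas.
-/

set_option autoImplicit false
set_option linter.unusedSectionVars false
set_option maxHeartbeats 1600000

open Subgroup

universe u

namespace CfsgLib.ProdFusion

variable {G : Type u} [Group G]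

theorem mem_cent {g v : G} : g ∈ centralizer ({v} : Set G) ↔ Commute g v :=
  mem_centralizer_singleton_iff

/-- The odd core of the centraliser of `v`, inside `G`. -/
def omega (v : G) : Subgroup G := CfsgLib.Signalizer.opr 2 (centralizer ({v} : Set G))

/-- The minimal configuration. -/
structure Minimal (𝒜 ℬ : Set G) : Prop where
  setting : Setting 𝒜 ℬ
  core : Cfsg.oddCore G = ⊥
  ih : ∀ H : Subgroup G, H ≠ ⊤ → Good (H.subtype ⁻¹' 𝒜) (H.subtype ⁻¹' ℬ)
  ncA : ∀ a ∈ 𝒜, a * a = 1 → a ≠ 1 → a ∉ center G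
  ncB : ∀ b ∈ ℬ, b * b = 1 → b ≠ 1 → b ∉ center G
  ncAB : ∀ a ∈ 𝒜, ∀ b ∈ ℬ, a * a = 1 → b * b = 1 → Commute a b → a ≠ 1 → b ≠ 1 →
    a * b ∉ center G

theorem Minimal.symm {𝒜 ℬ : Set G} (h : Minimal 𝒜 ℬ) : Minimal ℬ 𝒜 :=
  ⟨h.setting.symm, h.core, fun H hH => (h.ih H hH).symm, h.ncB, h.ncA,
    fun b hb a ha hb2 ha2 hc hb1 ha1 => hc.eq ▸ h.ncAB a ha b hb ha2 hb2 hc.symm ha1 hb1⟩

theorem omega_le (v : G) : omega v ≤ centralizer ({v} : Set G) := CfsgLib.Signalizer.opr_le _ _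

theorem commute_of_mem_omega {v x : G} (hx : x ∈ omega v) : Commute x v := mem_cent.mp (omega_le v hx)

theorem centralizer_le_normalizer_omega (v : G) :
    centralizer ({v} : Set G) ≤ normalizer (omega v : Set G) :=
  CfsgLib.Signalizer.le_normalizer_opr _ _

theorem conj_mem_omega {v g x : G} (hg : Commute g v) (hx : x ∈ omega v) :
    g * x * g⁻¹ ∈ omega v :=
  (mem_normalizer_iff.mp (centralizer_le_normalizer_omega v (mem_cent.mpr hg)) x).mp hx

theorem sq_conj (g : G) {a : G} (ha : a * a = 1) : g * a * g⁻¹ * (g * a * g⁻¹) = 1 := by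
  rw [conj_mul, ha, mul_one, mul_inv_cancel]

theorem commute_of_sq {a b : G} (ha : a * a = 1) (hb : b * b = 1)
    (h : a * b * (a * b) = 1) : Commute a b :=
  (inv_eq_of_mul_eq_one_right h).symm.trans (by rw [mul_inv_rev, inv_eq_of_sq ha, inv_eq_of_sq hb])

theorem sq_of_commute {a b : G} (ha : a * a = 1) (hb : b * b = 1) (h : Commute a b) :
    a * b * (a * b) = 1 := by
  rw [mul_assoc, ← mul_assoc b, ← h.eq, mul_assoc a b b, hb, mul_one, ha]

theorem inverts_sq {a x : G} (h : a * x * a⁻¹ = x⁻¹) : a * (x * x) * a⁻¹ = (x * x)⁻¹ := by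
  rw [← conj_mul, h, mul_inv_rev]

variable [Finite G]

theorem omega_odd (v : G) : Odd (Nat.card (omega v)) :=
  Nat.coprime_two_right.mp (CfsgLib.Signalizer.opr_coprime 2 _)

theorem odd_orderOf_of_mem {U : Subgroup G} (hU : Odd (Nat.card U)) {x : G} (hx : x ∈ U) :
    Odd (orderOf x) :=
  hU.of_dvd_nat ((Subgroup.orderOf_mk (H := U) x hx).symm ▸ orderOf_dvd_natCard _)

theorem odd_of_le {U V : Subgroup G} (hV : Odd (Nat.card V)) (h : U ≤ V) : Odd (Nat.card U) :=
  hV.of_dvd_nat (card_dvd_of_le h)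

theorem odd_sup {N H : Subgroup G} (hN : Odd (Nat.card N)) (hH : Odd (Nat.card H))
    (hn : H ≤ normalizer (N : Set G)) : Odd (Nat.card (N ⊔ H : Subgroup G)) :=
  (hN.mul hH).of_dvd_nat (CfsgLib.Solvable.card_sup_dvd hn)

theorem mem_of_sq_mem {U : Subgroup G} {x : G} (hx : Odd (orderOf x)) (h : x * x ∈ U) :
    x ∈ U := by
  obtain ⟨m, hm⟩ := hx
  have h1 : (x * x) ^ (m + 1) = x := by
    rw [← pow_two, ← pow_mul, show 2 * (m + 1) = orderOf x + 1 by omega, pow_succ,
      pow_orderOf_eq_one, one_mul]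
  exact h1 ▸ pow_mem h _

theorem eq_one_of_odd_sq {x : G} (hx : Odd (orderOf x)) (h : x * x = 1) : x = 1 :=
  mem_bot.mp (mem_of_sq_mem hx (mem_bot.mpr h))

/-- An odd element inverted and centralised by the same element is trivial. -/
theorem eq_one_of_inverted_commute {x a : G} (hx : Odd (orderOf x)) (hinv : a * x * a⁻¹ = x⁻¹)
    (hc : Commute a x) : x = 1 := by
  rw [hc.eq, mul_inv_cancel_right] at hinv
  exact eq_one_of_odd_sq hx (mul_eq_one_iff_eq_inv.mpr hinv)

/-- Two involutions with product of odd square are conjugate into commuting ones. -/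
theorem exists_conj_commute {a k : G} (ha : a * a = 1) (hk : k * k = 1)
    (hodd : Odd (orderOf (a * k * (a * k)))) :
    ∃ g ∈ zpowers (a * k * (a * k)), Commute (g * a * g⁻¹) k := by
  obtain ⟨m, hm⟩ := hodd
  set u := a * k * (a * k) with hu
  have hinv : a * u * a⁻¹ = u⁻¹ := inverts_sq (CfsgLib.Invol.conj_prod ha hk)
  set j : ℤ := (m : ℤ) * (m + 1) with hj
  refine ⟨u ^ j, zpow_mem_zpowers u j, ?_⟩
  have h1 : u ^ j * a * (u ^ j)⁻¹ = u ^ (2 * j) * a := by
    rw [← zpow_neg, mul_assoc, CfsgLib.Invol.mul_zpow_of_inverts hinv, neg_neg, ← mul_assoc,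
      ← zpow_add, two_mul]
  refine commute_of_sq (sq_conj _ ha) hk ?_
  rw [h1, mul_assoc (u ^ (2 * j)) a k]
  have hc : Commute (u ^ (2 * j)) (a * k) :=
    (((Commute.refl (a * k)).mul_left (Commute.refl (a * k))).zpow_left _)
  rw [hc.symm.mul_mul_mul_comm, ← hu, ← zpow_add, ← zpow_add_one,
    show (2 * j + 2 * j + 1) = ((orderOf u : ℕ) : ℤ) * (2 * m + 1) by
      rw [hm]; push_cast; rw [hj]; ring,
    zpow_mul, zpow_natCast, pow_orderOf_eq_one, one_zpow]

/-- An odd element inverted by `a` is a commutator with `a`. -/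
theorem exists_conj_of_inverted {a w : G} (hw : Odd (orderOf w)) (hinv : a * w * a⁻¹ = w⁻¹) :
    ∃ g ∈ zpowers w, g * a * g⁻¹ = w * a := by
  obtain ⟨m, hm⟩ := hw
  set j : ℤ := m + 1 with hj
  refine ⟨w ^ j, zpow_mem_zpowers w j, ?_⟩
  rw [← zpow_neg, mul_assoc, CfsgLib.Invol.mul_zpow_of_inverts hinv, neg_neg, ← mul_assoc,
    ← zpow_add, show j + j = ((orderOf w : ℕ) : ℤ) + 1 by rw [hm, hj]; push_cast; ring,
    zpow_add_one, zpow_natCast, pow_orderOf_eq_one, one_mul]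

theorem le_omega {v : G} {L P : Subgroup G} (hL : L ≤ centralizer ({v} : Set G))
    (hKL : centralizer ({v} : Set G) ≤ normalizer (L : Set G)) (hPL : P ≤ L)
    (hLP : L ≤ normalizer (P : Set G)) (hP : Odd (Nat.card P)) : P ≤ omega v := by
  refine (CfsgLib.Signalizer.le_opr_of hPL hLP (Nat.coprime_two_right.mpr hP)).trans ?_
  exact CfsgLib.Signalizer.le_opr_of ((CfsgLib.Signalizer.opr_le 2 L).trans hL)
    (hKL.trans (CfsgLib.Signalizer.normalizer_le_normalizer_opr 2 L))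
    (CfsgLib.Signalizer.opr_coprime 2 L)

theorem coe_mem_omega {v : G} {u : ↥(centralizer ({v} : Set G))}
    (hu : u ∈ Cfsg.oddCore ↥(centralizer ({v} : Set G))) : (u : G) ∈ omega v := ⟨u, hu, rfl⟩

attribute [irreducible] omega

variable {𝒜 ℬ : Set G} (M : Minimal 𝒜 ℬ)
include M

theorem Minimal.sq_mem_omega {v a b : G} (hv : v ∉ center G) (ha : a ∈ 𝒜) (hb : b ∈ ℬ)
    (ha2 : a * a = 1) (hb2 : b * b = 1) (hav : Commute a v) (hbv : Commute b v) :
    a * b * (a * b) ∈ omega v := by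
  have hne : centralizer ({v} : Set G) ≠ ⊤ := fun h => hv (Subgroup.mem_center_iff.mpr fun g =>
    (mem_cent.mp (h ▸ mem_top g : g ∈ centralizer ({v} : Set G))).eq)
  exact coe_mem_omega (M.ih _ hne ⟨a, mem_cent.mpr hav⟩ ha ⟨b, mem_cent.mpr hbv⟩ hb
    (Subtype.ext ha2) (Subtype.ext hb2))

/-- An odd element inverted by commuting involutions `a ∈ 𝒜` and `b ∈ ℬ`. -/
theorem Minimal.quad {v a b y : G} (hv : v ∉ center G) (ha : a ∈ 𝒜) (hb : b ∈ ℬ)
    (ha2 : a * a = 1) (hb2 : b * b = 1) (hab : Commute a b) (hav : Commute a v)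
    (hbv : Commute b v) (hy : Odd (orderOf y)) (hyv : Commute y v)
    (hay : a * y * a⁻¹ = y⁻¹) (hby : b * y * b⁻¹ = y⁻¹) : y ∈ omega v := by
  set b' := y * b * y⁻¹ with hb'
  have h1 : a * b' * (a * b') ∈ omega v := M.sq_mem_omega hv ha (M.setting.conjB y b hb) ha2
    (sq_conj y hb2) hav ((hyv.mul_left hbv).mul_left hyv.inv_left)
  have e1 : b' = y * y * b := by
    rw [hb', mul_assoc y b, show b * y⁻¹ = y * b by
      rw [← mul_inv_eq_iff_eq_mul, ← conj_inv, hby, inv_inv], ← mul_assoc]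
  have e2 : a * b' * (a * b') = (y * y)⁻¹ * (y * y)⁻¹ := by
    have h2 : a * (y * y) = (y * y)⁻¹ * a := mul_inv_eq_iff_eq_mul.mp (inverts_sq hay)
    have h3 : b * (y * y)⁻¹ = (y * y) * b := by
      rw [← mul_inv_eq_iff_eq_mul, ← conj_inv, inverts_sq hby, inv_inv]
    rw [e1, ← mul_assoc a (y * y), h2]
    calc (y * y)⁻¹ * a * b * ((y * y)⁻¹ * a * b)
        = (y * y)⁻¹ * (a * (b * (y * y)⁻¹)) * (a * b) := by simp only [mul_assoc]
      _ = (y * y)⁻¹ * (a * (y * y)) * b * (a * b) := by rw [h3]; simp only [mul_assoc]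
      _ = (y * y)⁻¹ * (y * y)⁻¹ * (a * b * (a * b)) := by rw [h2]; simp only [mul_assoc]
      _ = (y * y)⁻¹ * (y * y)⁻¹ := by rw [sq_of_commute ha2 hb2 hab, mul_one]
  rw [e2, ← mul_inv_rev, inv_mem_iff] at h1
  refine mem_of_sq_mem hy (mem_of_sq_mem ?_ h1)
  rw [CfsgLib.TwoFusion.orderOf_sq_of_odd hy]
  exact hy

/-- Every `𝒜`-involution of `C(v)` is conjugate in `omega v` to one commuting with `k`. -/
theorem Minimal.exists_lift {v a k : G} (hv : v ∉ center G) (ha : a ∈ 𝒜) (hk : k ∈ ℬ)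
    (ha2 : a * a = 1) (hk2 : k * k = 1) (hav : Commute a v) (hkv : Commute k v) :
    ∃ g ∈ omega v, Commute (g * a * g⁻¹) k := by
  have h := M.sq_mem_omega hv ha hk ha2 hk2 hav hkv
  obtain ⟨g, hg, hc⟩ := exists_conj_commute ha2 hk2 (odd_orderOf_of_mem (omega_odd v) h)
  exact ⟨g, zpowers_le.mpr h hg, hc⟩

/-- An odd element of `omega e` inverted by an `𝒜`-involution moves into `omega v`. -/
theorem Minimal.absorb {v k e a x : G} (hv : v ∉ center G) (hk : k ∈ ℬ) (hk2 : k * k = 1)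
    (ha : a ∈ 𝒜) (ha2 : a * a = 1) (hav : Commute a v) (hkv : Commute k v)
    (he : ∀ g : G, Commute g k → Commute g v → Commute g e)
    (hxe : x ∈ omega e) (hxv : Commute x v) (hinv : a * x * a⁻¹ = x⁻¹) : x ∈ omega v := by
  set K := centralizer ({v} : Set G) with hK
  set D := omega e ⊓ K with hD
  set S := {a₁ : G | a₁ ∈ 𝒜 ∧ a₁ * a₁ = 1 ∧ Commute a₁ v} with hS
  set U := omega v ⊔ D with hU
  have hDN : D ≤ normalizer (omega v : Set G) :=
    inf_le_right.trans (centralizer_le_normalizer_omega v)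
  have hUK : U ≤ K := sup_le (omega_le v) inf_le_right
  have hOU : omega v ≤ normalizer (U : Set G) := le_sup_left.trans le_normalizer
  have hSU : ∀ a₁ ∈ S, a₁ ∈ normalizer (U : Set G) := by
    rintro a₁ ⟨h1, h2, h3⟩
    obtain ⟨g, hg, hc⟩ := M.exists_lift hv h1 hk h2 hk2 h3 hkv
    have hgv := commute_of_mem_omega hg
    have hv' : Commute (g * a₁ * g⁻¹) v := (hgv.mul_left h3).mul_left hgv.inv_left
    have hA : g * a₁ * g⁻¹ ∈ normalizer (U : Set G) := by
      refine CfsgLib.Signalizer.le_normalizer_sup (U := zpowers (g * a₁ * g⁻¹)) ?_ ?_ (mem_zpowers _)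
      · exact zpowers_le.mpr (centralizer_le_normalizer_omega v (mem_cent.mpr hv'))
      · exact CfsgLib.Signalizer.le_normalizer_inf
          (zpowers_le.mpr (centralizer_le_normalizer_omega e (mem_cent.mpr (he _ hc hv'))))
          (zpowers_le.mpr (le_normalizer (mem_cent.mpr hv')))
    have := mul_mem (mul_mem (inv_mem (hOU hg)) hA) (hOU hg)
    simpa [mul_assoc] using this
  set L := closure S ⊔ omega v with hL
  have hLU : L ≤ normalizer (U : Set G) := sup_le ((closure_le _).mpr hSU) hOU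
  have hLK : L ≤ K := sup_le ((closure_le _).mpr fun s hs => mem_cent.mpr hs.2.2) (omega_le v)
  have hKS : K ≤ normalizer (closure S : Set G) := by
    refine le_trans ?_ (normalizer_le_normalizer_closure S)
    intro g hg
    have hg' : Commute g v := mem_cent.mp hg
    show ∀ s, s ∈ S ↔ g * s * g⁻¹ ∈ S
    intro s
    refine ⟨fun hs => ⟨M.setting.conjA g s hs.1, sq_conj g hs.2.1,
      (hg'.mul_left hs.2.2).mul_left hg'.inv_left⟩, fun hs => ?_⟩
    have e1 : g⁻¹ * (g * s * g⁻¹) * g⁻¹⁻¹ = s := by simp [mul_assoc]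
    exact ⟨e1 ▸ M.setting.conjA g⁻¹ _ hs.1, e1 ▸ sq_conj g⁻¹ hs.2.1,
      e1 ▸ (hg'.inv_left.mul_left hs.2.2).mul_left hg'.inv_left.inv_left⟩
  have hKL : K ≤ normalizer (L : Set G) :=
    CfsgLib.Signalizer.le_normalizer_sup hKS (centralizer_le_normalizer_omega v)
  have hP : U ⊓ L ≤ omega v := le_omega hLK hKL inf_le_right
    (CfsgLib.Signalizer.le_normalizer_inf hLU le_normalizer)
    (odd_of_le (odd_sup (omega_odd v) (odd_of_le (omega_odd e) inf_le_left) hDN) inf_le_left)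
  have hxK : x ∈ K := mem_cent.mpr hxv
  have hxU : x ∈ U := mem_sup_right ⟨hxe, hxK⟩
  have haL : a ∈ L := mem_sup_left (subset_closure ⟨ha, ha2, hav⟩)
  have h1 : x * a * x⁻¹ * a⁻¹ ∈ L :=
    mul_mem ((mem_normalizer_iff.mp (hKL hxK) a).mp haL) (inv_mem haL)
  have e3 : x * a * x⁻¹ * a⁻¹ = x * x := by
    calc x * a * x⁻¹ * a⁻¹ = x * (a * x * a⁻¹)⁻¹ := by group
      _ = x * x := by rw [hinv, inv_inv]
  rw [e3] at h1
  exact mem_of_sq_mem (odd_orderOf_of_mem (omega_odd e) hxe) (hP ⟨mul_mem hxU hxU, h1⟩)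

/-- An element of `omega e ∩ omega b` fixed by `v` moves into `omega v`. -/
theorem Minimal.meet {v a b e d : G} (hv : v ∉ center G) (ha : a ∈ 𝒜) (ha2 : a * a = 1)
    (hb : b ∈ ℬ) (hb2 : b * b = 1) (hav : Commute a v) (hbv : Commute b v)
    (he : ∀ g : G, Commute g a → Commute g v → Commute g e)
    (hde : d ∈ omega e) (hdb : d ∈ omega b) (hdv : Commute d v) : d ∈ omega v := by
  set K := centralizer ({v} : Set G) with hK
  set O := omega v with hO
  set D := omega e ⊓ K with hD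
  set S := {s : G | (s ∈ 𝒜 ∨ s ∈ ℬ) ∧ s * s = 1 ∧ Commute s v} with hS
  have hKO : K ≤ normalizer (O : Set G) := centralizer_le_normalizer_omega v
  let R : Subgroup G :=
    { carrier := {g | g ∈ K ∧ ∀ s ∈ S, g * s * g⁻¹ * s⁻¹ ∈ O}
      one_mem' := ⟨one_mem K, fun s _ => by simp⟩
      mul_mem' := by
        rintro g h ⟨hg, hg'⟩ ⟨hh, hh'⟩
        refine ⟨mul_mem hg hh, fun s hs => ?_⟩
        have := O.mul_mem ((mem_normalizer_iff.mp (hKO hg) _).mp (hh' s hs)) (hg' s hs)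
        simpa [mul_assoc] using this
      inv_mem' := by
        rintro g ⟨hg, hg'⟩
        refine ⟨inv_mem hg, fun s hs => ?_⟩
        have := (mem_normalizer_iff''.mp (hKO hg) _).mp (O.inv_mem (hg' s hs))
        simpa [mul_assoc] using this }
  have hKR : K ≤ normalizer (R : Set G) := by
    rw [le_normalizer_iff]
    rintro h hh g ⟨hg, hg'⟩
    refine ⟨mul_mem (mul_mem hh hg) (inv_mem hh), fun s hs => ?_⟩
    have hh' : Commute h v := mem_cent.mp hh
    have hs' : h⁻¹ * s * h⁻¹⁻¹ ∈ S := ⟨hs.1.imp (M.setting.conjA _ _) (M.setting.conjB _ _),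
      sq_conj _ hs.2.1, (hh'.inv_left.mul_left hs.2.2).mul_left hh'.inv_left.inv_left⟩
    have := (mem_normalizer_iff.mp (hKO hh) _).mp (hg' _ hs')
    simpa [mul_assoc] using this
  -- elements of `R` normalise `O ⊔ D`
  have hDN : D ≤ normalizer (O : Set G) := inf_le_right.trans hKO
  have hRD : R ≤ normalizer ((O ⊔ D : Subgroup G) : Set G) := by
    rintro g ⟨hg, hg'⟩
    have hgv : Commute g v := mem_cent.mp hg
    have hw := hg' a ⟨Or.inl ha, ha2, hav⟩
    have hinv : a * (g * a * g⁻¹ * a⁻¹) * a⁻¹ = (g * a * g⁻¹ * a⁻¹)⁻¹ := by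
      have hgag : (g * a * g⁻¹)⁻¹ = g * a * g⁻¹ := inv_eq_of_sq (sq_conj g ha2)
      rw [mul_inv_rev, hgag, inv_inv, inv_eq_of_sq ha2]
      simp only [mul_assoc, ha2, mul_one]
    obtain ⟨h, hh, hha⟩ := exists_conj_of_inverted (odd_orderOf_of_mem (omega_odd v) hw) hinv
    have hhO : h ∈ O := zpowers_le.mpr hw hh
    rw [show g * a * g⁻¹ * a⁻¹ * a = g * a * g⁻¹ by simp [mul_assoc]] at hha
    have hca : Commute (h⁻¹ * g) a := by
      show h⁻¹ * g * a = a * (h⁻¹ * g)
      calc h⁻¹ * g * a = h⁻¹ * (g * a * g⁻¹) * g := by simp [mul_assoc]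
        _ = h⁻¹ * (h * a * h⁻¹) * g := by rw [hha]
        _ = a * (h⁻¹ * g) := by simp [mul_assoc]
    have hcv : Commute (h⁻¹ * g) v := (commute_of_mem_omega hhO).inv_left.mul_left hgv
    have h1 : h⁻¹ * g ∈ normalizer ((O ⊔ D : Subgroup G) : Set G) := by
      refine CfsgLib.Signalizer.le_normalizer_sup (U := zpowers (h⁻¹ * g)) ?_ ?_ (mem_zpowers _)
      · exact zpowers_le.mpr (hKO (mem_cent.mpr hcv))
      · exact CfsgLib.Signalizer.le_normalizer_inf
          (zpowers_le.mpr (centralizer_le_normalizer_omega e (mem_cent.mpr (he _ hca hcv))))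
          (zpowers_le.mpr (le_normalizer (mem_cent.mpr hcv)))
    simpa using mul_mem ((le_sup_left.trans le_normalizer : O ≤ normalizer _) hhO) h1
  have hP : (O ⊔ D) ⊓ R ≤ O := le_omega (fun g (hg : g ∈ R) => (hg : g ∈ K ∧ _).1) hKR inf_le_right
    (CfsgLib.Signalizer.le_normalizer_inf hRD le_normalizer)
    (odd_of_le (odd_sup (omega_odd v) (odd_of_le (omega_odd e) inf_le_left) hDN) inf_le_left)
  have hdK : d ∈ K := mem_cent.mpr hdv
  refine hP ⟨mem_sup_right ⟨hde, hdK⟩, hdK, fun s hs => ?_⟩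
  -- `d` centralises each generator modulo `O`
  obtain ⟨g, hgO, hgs⟩ : ∃ g ∈ O, d * (g * s * g⁻¹) * d⁻¹ * (g * s * g⁻¹)⁻¹ ∈ O := by
    obtain ⟨hAB, hs2, hsv⟩ := hs
    rcases hAB with hA | hB
    · obtain ⟨g, hg, hc⟩ := M.exists_lift hv hA hb hs2 hb2 hsv hbv
      refine ⟨g, hg, ?_⟩
      have hgv := commute_of_mem_omega hg
      have hc' : Commute (g * s * g⁻¹) v := (hgv.mul_left hsv).mul_left hgv.inv_left
      refine M.absorb hv hb hb2 (M.setting.conjA g s hA) (sq_conj g hs2) hc' hbv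
        (fun _ h _ => h) ?_ ?_ ?_
      · have h1 := conj_mem_omega hc (inv_mem hdb)
        simpa [mul_assoc] using mul_mem hdb h1
      · exact ((hdv.mul_left hc').mul_left hdv.inv_left).mul_left hc'.inv_left
      · have hi := inv_eq_of_sq (sq_conj g hs2)
        set t := g * s * g⁻¹ with ht
        have htt : t * t = 1 := sq_conj g hs2
        simp only [mul_inv_rev, inv_inv, hi, mul_assoc, htt, mul_one]
    · obtain ⟨g, hg, hc⟩ := M.symm.exists_lift hv hB ha hs2 ha2 hsv hav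
      refine ⟨g, hg, ?_⟩
      have hgv := commute_of_mem_omega hg
      have hc' : Commute (g * s * g⁻¹) v := (hgv.mul_left hsv).mul_left hgv.inv_left
      refine M.symm.absorb hv ha ha2 (M.setting.conjB g s hB) (sq_conj g hs2) hc' hav
        he ?_ ?_ ?_
      · have h1 := conj_mem_omega (he _ hc hc') (inv_mem hde)
        simpa [mul_assoc] using mul_mem hde h1
      · exact ((hdv.mul_left hc').mul_left hdv.inv_left).mul_left hc'.inv_left
      · have hi := inv_eq_of_sq (sq_conj g hs2)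
        set t := g * s * g⁻¹ with ht
        have htt : t * t = 1 := sq_conj g hs2
        simp only [mul_inv_rev, inv_inv, hi, mul_assoc, htt, mul_one]
  have hsK : s ∈ K := mem_cent.mpr hs.2.2
  set t := g * s * g⁻¹ with ht
  have hn : s * t⁻¹ ∈ O := by
    have h1 := (mem_normalizer_iff.mp (hKO hsK) g).mp hgO
    have : s * t⁻¹ = (s * g * s⁻¹) * g⁻¹ := by rw [ht]; group
    rw [this]
    exact mul_mem h1 (inv_mem hgO)
  have h2 : d * (s * t⁻¹) * d⁻¹ * (d * t * d⁻¹ * t⁻¹) * (s * t⁻¹)⁻¹ ∈ O :=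
    mul_mem (mul_mem ((mem_normalizer_iff.mp (hKO hdK) _).mp hn) hgs) (inv_mem hn)
  simpa [mul_assoc] using h2

end CfsgLib.ProdFusion
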