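import Cfsg.Agent.Lib.Signalizer.SubCore
import Cfsg.Agent.Lib.TwoFusion.FusionTools
import Cfsg.Agent.Lib.TwoFusion.ConjUtil
import Cfsg.Prelude.Def_CaseTheorems

/-!
# Product fusion

Two conjugation invariant sets of 2-elements which, inside every 2-subgroup, are closed under
products and commute with each other, and which share only the identity.
-/

set_option autoImplicit false
set_option linter.unusedSectionVars false

open Subgroup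

universe u

namespace CfsgLib.ProdFusion

variable {G : Type u} [Group G]

/-- The axioms of product fusion. -/
structure Setting (𝒜 ℬ : Set G) : Prop where
  oneA : (1 : G) ∈ 𝒜
  oneB : (1 : G) ∈ ℬ
  conjA : ∀ (g : G), ∀ a ∈ 𝒜, g * a * g⁻¹ ∈ 𝒜
  conjB : ∀ (g : G), ∀ b ∈ ℬ, g * b * g⁻¹ ∈ ℬ
  twoA : ∀ a ∈ 𝒜, ∃ k : ℕ, orderOf a = 2 ^ k
  twoB : ∀ b ∈ ℬ, ∃ k : ℕ, orderOf b = 2 ^ k
  mulA : ∀ R : Subgroup G, IsPGroup 2 R → ∀ x ∈ 𝒜, x ∈ R → ∀ y ∈ 𝒜, y ∈ R → x * y ∈ 𝒜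
  mulB : ∀ R : Subgroup G, IsPGroup 2 R → ∀ x ∈ ℬ, x ∈ R → ∀ y ∈ ℬ, y ∈ R → x * y ∈ ℬ
  comm : ∀ R : Subgroup G, IsPGroup 2 R → ∀ a ∈ 𝒜, a ∈ R → ∀ b ∈ ℬ, b ∈ R → Commute a b
  disj : ∀ x, x ∈ 𝒜 → x ∈ ℬ → x = 1

/-- The conclusion: `(ab)²` lies in the odd core for involutions `a ∈ 𝒜`, `b ∈ ℬ`. -/
def Good (𝒜 ℬ : Set G) : Prop :=
  ∀ a ∈ 𝒜, ∀ b ∈ ℬ, a * a = 1 → b * b = 1 → a * b * (a * b) ∈ Cfsg.oddCore G

theorem Setting.symm {𝒜 ℬ : Set G} (h : Setting 𝒜 ℬ) : Setting ℬ 𝒜 :=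
  ⟨h.oneB, h.oneA, h.conjB, h.conjA, h.twoB, h.twoA, h.mulB, h.mulA,
    fun R hR b hb hbR a ha haR => (h.comm R hR a ha haR b hb hbR).symm,
    fun x hB hA => h.disj x hA hB⟩

theorem inv_eq_of_sq {a : G} (h : a * a = 1) : a⁻¹ = a := inv_eq_of_mul_eq_one_right h

theorem Good.symm {𝒜 ℬ : Set G} (h : Good 𝒜 ℬ) : Good ℬ 𝒜 := by
  intro b hb a ha hb2 ha2
  have h1 := inv_mem (h a ha b hb ha2 hb2)
  rwa [mul_inv_rev, mul_inv_rev, inv_eq_of_sq ha2, inv_eq_of_sq hb2] at h1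

theorem Setting.comap {𝒜 ℬ : Set G} (h : Setting 𝒜 ℬ) {H : Type u} [Group H] (f : H →* G)
    (hf : Function.Injective f) : Setting (f ⁻¹' 𝒜) (f ⁻¹' ℬ) where
  oneA := by simpa using h.oneA
  oneB := by simpa using h.oneB
  conjA g a ha := by simpa [Set.mem_preimage] using h.conjA (f g) (f a) ha
  conjB g a ha := by simpa [Set.mem_preimage] using h.conjB (f g) (f a) ha
  twoA a ha := by simpa [orderOf_injective f hf] using h.twoA (f a) ha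
  twoB a ha := by simpa [orderOf_injective f hf] using h.twoB (f a) ha
  mulA R hR x hx hxR y hy hyR := by
    simpa [Set.mem_preimage] using
      h.mulA _ (hR.map f) (f x) hx ⟨x, hxR, rfl⟩ (f y) hy ⟨y, hyR, rfl⟩
  mulB R hR x hx hxR y hy hyR := by
    simpa [Set.mem_preimage] using
      h.mulB _ (hR.map f) (f x) hx ⟨x, hxR, rfl⟩ (f y) hy ⟨y, hyR, rfl⟩
  comm R hR a ha haR b hb hbR := by
    have h1 := (h.comm _ (hR.map f) (f a) ha ⟨a, haR, rfl⟩ (f b) hb ⟨b, hbR, rfl⟩).eq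
    rw [← map_mul, ← map_mul] at h1
    exact hf h1
  disj x hA hB := hf (by rw [h.disj (f x) hA hB, map_one])

theorem isTwoPow_map {H : Type u} [Group H] (π : G →* H) {a : G}
    (ha : ∃ k : ℕ, orderOf a = 2 ^ k) : ∃ k : ℕ, orderOf (π a) = 2 ^ k := by
  obtain ⟨k, hk⟩ := ha
  obtain ⟨j, -, hj⟩ := (Nat.dvd_prime_pow Nat.prime_two).mp (hk ▸ orderOf_map_dvd π a)
  exact ⟨j, hj⟩

/-- Every 2-subgroup of the image is covered by one 2-subgroup up to conjugation in the kernel. -/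
def Lifts {H : Type u} [Group H] (π : G →* H) : Prop :=
  ∀ R : Subgroup H, IsPGroup 2 R → ∃ T : Subgroup G, IsPGroup 2 T ∧
    ∀ x : G, (∃ k : ℕ, orderOf x = 2 ^ k) → π x ∈ R → ∃ n ∈ π.ker, n * x * n⁻¹ ∈ T

theorem Setting.map {𝒜 ℬ : Set G} (h : Setting 𝒜 ℬ) {H : Type u} [Group H] {π : G →* H}
    (hπ : Function.Surjective π) (hl : Lifts π)
    (hd : ∀ a ∈ 𝒜, ∀ b ∈ ℬ, π a = π b → π a = 1) : Setting (π '' 𝒜) (π '' ℬ) := by
  have hmv : ∀ {𝒞 : Set G}, (∀ (g : G), ∀ c ∈ 𝒞, g * c * g⁻¹ ∈ 𝒞) → ∀ {T : Subgroup G},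
      ∀ c ∈ 𝒞, ∀ n ∈ π.ker, n * c * n⁻¹ ∈ T → ∃ c' ∈ 𝒞, c' ∈ T ∧ π c' = π c := by
    intro 𝒞 hc T c hcC n hn hT
    exact ⟨_, hc n c hcC, hT, by simp [MonoidHom.mem_ker.mp hn]⟩
  refine ⟨⟨1, h.oneA, map_one π⟩, ⟨1, h.oneB, map_one π⟩, ?_, ?_, ?_, ?_, ?_, ?_, ?_, ?_⟩
  · rintro g _ ⟨a, ha, rfl⟩
    obtain ⟨g, rfl⟩ := hπ g
    exact ⟨_, h.conjA g a ha, by simp⟩
  · rintro g _ ⟨a, ha, rfl⟩
    obtain ⟨g, rfl⟩ := hπ g
    exact ⟨_, h.conjB g a ha, by simp⟩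
  · rintro _ ⟨a, ha, rfl⟩
    exact isTwoPow_map π (h.twoA a ha)
  · rintro _ ⟨a, ha, rfl⟩
    exact isTwoPow_map π (h.twoB a ha)
  · rintro R hR _ ⟨x, hx, rfl⟩ hxR _ ⟨y, hy, rfl⟩ hyR
    obtain ⟨T, hT, hlift⟩ := hl R hR
    obtain ⟨n, hn, hnT⟩ := hlift x (h.twoA x hx) hxR
    obtain ⟨m, hm, hmT⟩ := hlift y (h.twoA y hy) hyR
    obtain ⟨x', hx', hxT, hxe⟩ := hmv h.conjA x hx n hn hnT
    obtain ⟨y', hy', hyT, hye⟩ := hmv h.conjA y hy m hm hmT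
    exact ⟨x' * y', h.mulA T hT x' hx' hxT y' hy' hyT, by rw [map_mul, hxe, hye]⟩
  · rintro R hR _ ⟨x, hx, rfl⟩ hxR _ ⟨y, hy, rfl⟩ hyR
    obtain ⟨T, hT, hlift⟩ := hl R hR
    obtain ⟨n, hn, hnT⟩ := hlift x (h.twoB x hx) hxR
    obtain ⟨m, hm, hmT⟩ := hlift y (h.twoB y hy) hyR
    obtain ⟨x', hx', hxT, hxe⟩ := hmv h.conjB x hx n hn hnT
    obtain ⟨y', hy', hyT, hye⟩ := hmv h.conjB y hy m hm hmT
    exact ⟨x' * y', h.mulB T hT x' hx' hxT y' hy' hyT, by rw [map_mul, hxe, hye]⟩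
  · rintro R hR _ ⟨x, hx, rfl⟩ hxR _ ⟨y, hy, rfl⟩ hyR
    obtain ⟨T, hT, hlift⟩ := hl R hR
    obtain ⟨n, hn, hnT⟩ := hlift x (h.twoA x hx) hxR
    obtain ⟨m, hm, hmT⟩ := hlift y (h.twoB y hy) hyR
    obtain ⟨x', hx', hxT, hxe⟩ := hmv h.conjA x hx n hn hnT
    obtain ⟨y', hy', hyT, hye⟩ := hmv h.conjB y hy m hm hmT
    have h1 := congrArg π (h.comm T hT x' hx' hxT y' hy' hyT).eq
    rw [map_mul, map_mul, hxe, hye] at h1
    exact h1
  · rintro _ ⟨a, ha, rfl⟩ ⟨b, hb, hab⟩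
    exact hd a ha b hb hab.symm

variable [Finite G]

theorem lifts_of_odd (N : Subgroup G) [N.Normal] (hN : Odd (Nat.card N)) :
    Lifts (QuotientGroup.mk' N) := by
  intro R hR
  haveI : Fact (Nat.Prime 2) := ⟨Nat.prime_two⟩
  set M := R.comap (QuotientGroup.mk' N) with hM
  obtain ⟨T, hT, hTM, -, hodd, hall⟩ := CfsgLib.TwoFusion.FusionTools.exists_sylow_in M ⊥
    IsPGroup.of_bot bot_le
  refine ⟨T, hT, fun x hx hxR => ?_⟩
  obtain ⟨k, hk⟩ := hx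
  have hxp : IsPGroup 2 (zpowers x) := IsPGroup.of_card (by rw [Nat.card_zpowers, hk])
  obtain ⟨g, hgM, hg⟩ := hall (zpowers x) hxp (zpowers_le.mpr hxR)
  have hNM : N ≤ M := fun n hn => by
    show QuotientGroup.mk' N n ∈ R
    rw [show QuotientGroup.mk' N n = 1 from (QuotientGroup.eq_one_iff n).mpr hn]
    exact one_mem R
  -- `M = T N`
  have hMTN : M ≤ T ⊔ N := by
    have h1 : (T ⊔ N).relIndex M ∣ T.relIndex M := relIndex_dvd_of_le_left M le_sup_left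
    have h2 : (T ⊔ N).relIndex M ∣ N.relIndex M := relIndex_dvd_of_le_left M le_sup_right
    obtain ⟨j, hj⟩ : ∃ j, N.relIndex M = 2 ^ j := by
      obtain ⟨j, hj⟩ := hR.exists_card_eq
      refine ⟨j, ?_⟩
      conv_lhs => rw [← QuotientGroup.ker_mk' N, ← MonoidHom.comap_bot, relIndex_comap, hM,
        map_comap_eq_self_of_surjective (QuotientGroup.mk'_surjective N), relIndex_bot_left]
      exact hj
    rw [hj] at h2
    exact relIndex_eq_one.mp (Nat.eq_one_of_dvd_coprimes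
      ((Nat.coprime_two_right.mpr hodd).pow_right j) h1 h2)
  obtain ⟨t, ht, n, hn, rfl⟩ := mem_sup_of_normal_right.mp (hMTN hgM)
  refine ⟨n, by rw [QuotientGroup.ker_mk']; exact hn, ?_⟩
  have h3 := mul_mem (mul_mem (inv_mem ht) (hg x (mem_zpowers x))) ht
  simpa [mul_assoc] using h3

/-- The quotient by a normal subgroup of odd order. -/
theorem Setting.quotientOdd {𝒜 ℬ : Set G} (h : Setting 𝒜 ℬ) (N : Subgroup G) [N.Normal]
    (hN : Odd (Nat.card N)) :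
    Setting (QuotientGroup.mk' N '' 𝒜) (QuotientGroup.mk' N '' ℬ) := by
  set π := QuotientGroup.mk' N with hπ
  have hl : Lifts π := lifts_of_odd N hN
  refine h.map (QuotientGroup.mk'_surjective N) hl fun a ha b hb hab => ?_
  haveI : Fact (Nat.Prime 2) := ⟨Nat.prime_two⟩
  obtain ⟨k, hk⟩ := isTwoPow_map π (h.twoA a ha)
  obtain ⟨T, hT, hlift⟩ := hl (zpowers (π a))
    (IsPGroup.of_card (by rw [Nat.card_zpowers, hk]))
  obtain ⟨n, hn, hnT⟩ := hlift a (h.twoA a ha) (mem_zpowers _)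
  obtain ⟨m, hm, hmT⟩ := hlift b (h.twoB b hb) (by rw [hab]; exact mem_zpowers _)
  have hker : (n * a * n⁻¹)⁻¹ * (m * b * m⁻¹) ∈ T ⊓ π.ker := by
    refine mem_inf.mpr ⟨mul_mem (inv_mem hnT) hmT, ?_⟩
    rw [MonoidHom.mem_ker]
    simp [MonoidHom.mem_ker.mp hn, MonoidHom.mem_ker.mp hm, hab]
  have hbot : T ⊓ π.ker = ⊥ := by
    rw [hπ, QuotientGroup.ker_mk']
    refine inf_eq_bot_of_coprime ?_
    obtain ⟨j, hj⟩ := hT.exists_card_eq
    rw [hj]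
    exact (Nat.coprime_two_left.mpr hN).pow_left j
  rw [hbot, mem_bot, inv_mul_eq_one] at hker
  have h1 := h.disj _ (h.conjA n a ha) (hker ▸ h.conjB m b hb)
  have h2 := congrArg π h1
  simpa [MonoidHom.mem_ker.mp hn] using h2

/-- The quotient by a central involution in `𝒜`. -/
theorem Setting.quotientCentral {𝒜 ℬ : Set G} (h : Setting 𝒜 ℬ) {t : G} (ht : t ∈ 𝒜)
    (ht2 : orderOf t = 2) [(zpowers t).Normal] :
    Setting (QuotientGroup.mk' (zpowers t) '' 𝒜) (QuotientGroup.mk' (zpowers t) '' ℬ) := by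
  haveI : Fact (Nat.Prime 2) := ⟨Nat.prime_two⟩
  set π := QuotientGroup.mk' (zpowers t) with hπ
  have hker : π.ker = zpowers t := QuotientGroup.ker_mk' _
  have hkp : IsPGroup 2 π.ker := by
    rw [hker]
    exact IsPGroup.of_card (n := 1) (by rw [Nat.card_zpowers, ht2, pow_one])
  refine h.map (QuotientGroup.mk'_surjective _)
    (fun R hR => ⟨R.comap π, hR.comap_of_ker_isPGroup π hkp, fun x _ hx =>
      ⟨1, one_mem _, by simpa using hx⟩⟩) fun a ha b hb hab => ?_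
  obtain ⟨k, hk⟩ := isTwoPow_map π (h.twoA a ha)
  have hT : IsPGroup 2 ((zpowers (π a)).comap π) :=
    (IsPGroup.of_card (by rw [Nat.card_zpowers, hk]) : IsPGroup 2 (zpowers (π a))).comap_of_ker_isPGroup
      π hkp
  have h1 : a⁻¹ * b ∈ zpowers t := by
    rw [← hker, MonoidHom.mem_ker, map_mul, map_inv, hab, inv_mul_cancel]
  obtain ⟨i, hi⟩ := mem_zpowers_iff.mp h1
  have hb2 : b = a * t ^ i := by rw [hi, mul_inv_cancel_left]
  have hbA : b ∈ 𝒜 := by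
    rcases Int.even_or_odd i with ⟨j, rfl⟩ | ⟨j, rfl⟩
    · rw [hb2, zpow_add, ← (Commute.refl t).mul_zpow, ← pow_two, ← ht2, pow_orderOf_eq_one,
        one_zpow, mul_one]
      exact ha
    · rw [hb2, zpow_add, two_mul, zpow_add, ← (Commute.refl t).mul_zpow, ← pow_two, ← ht2,
        pow_orderOf_eq_one, one_zpow, one_mul, zpow_one]
      exact h.mulA _ hT a ha (mem_zpowers _) t ht (by
        show π t ∈ zpowers (π a)
        rw [show π t = 1 from (QuotientGroup.eq_one_iff t).mpr (mem_zpowers t)]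
        exact one_mem _)
  rw [hab, h.disj b hbA hb, map_one]

end CfsgLib.ProdFusion
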